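import Mathlib
import Cfsg.Prelude.Def_Blocks
import Cfsg.Agent.Characters.Core
import Cfsg.Agent.Characters.ClassMul
import Cfsg.Agent.Characters.Values
import Cfsg.Agent.Blocks.Basic
import Cfsg.Agent.Blocks.PPart
import Cfsg.Agent.Blocks.PrincipalKernel
import Cfsg.Agent.Blocks.PrincipalSection
import Cfsg.Agent.S0145
import Cfsg.Agent.S0925

/-!
# Counting products of two involutions inside the principal `2`-block

`main` : let `s` be an involution, `P` a `2`-subgroup and `N` a subgroup such that the elements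
`u n` (`u ∈ P`, `n ∈ N`) which are products of two conjugates of `s` are `1` or conjugates of `s` in
`P`, such that a product `z` of two conjugates of `s` whose `2`-part is not `1` is conjugate to `s`,
such that the characters `χ` of the principal block satisfy `χ (u n) = χ u` for `u ∈ P - 1`, that
the characters `χ` outside of the principal block with `χ s ≠ 0` sum to zero over `P N`, and such
that `|N| ∑_{χ ∈ B₀} |χ s|² = |C(s)|`.  Then each `χ ∈ B₀` has `χ s = 0` or `N ≤ ker χ`.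
-/

set_option autoImplicit false

open Cfsg
open scoped ComplexConjugate

namespace Cfsg.Agent.SuzukiRankOne.M1Count

open Cfsg.Agent.Characters Cfsg.Agent.Characters.Core Cfsg.Agent.Blocks

variable {G : Type*} [Group G]

/-- the number of pairs `(a, b)` with `s^a s^b = z` -/
noncomputable def cnt (s z : G) : ℂ :=
  (Nat.card {p : G × G // p.1 * s * p.1⁻¹ * (p.2 * s * p.2⁻¹) = z} : ℂ)

theorem cnt_eq_zero {s z : G} (h : ∀ a b : G, a * s * a⁻¹ * (b * s * b⁻¹) ≠ z) : cnt s z = 0 := by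
  have : IsEmpty {p : G × G // p.1 * s * p.1⁻¹ * (p.2 * s * p.2⁻¹) = z} :=
    ⟨fun p => h p.1.1 p.1.2 p.2⟩
  unfold cnt
  rw [Nat.card_of_isEmpty, Nat.cast_zero]

variable [Finite G]

theorem cnt_eq_sum [Fintype (IrrCharacter G)] (s z : G) :
    cnt s z = (Nat.card G : ℂ) * ∑ χ : IrrCharacter G,
      (χ : G → ℂ) s * (χ : G → ℂ) s * conj ((χ : G → ℂ) z) / (χ : G → ℂ) 1 :=
  ClassMul.card_conj_mul_conj s s z

theorem cnt_isConj {s z z' : G} (h : IsConj z z') : cnt s z = cnt s z' := by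
  classical
  have : Finite (IrrCharacter G) := finite_irr
  have := Fintype.ofFinite (IrrCharacter G)
  rw [cnt_eq_sum, cnt_eq_sum]
  congr 1
  refine Finset.sum_congr rfl fun χ _ => ?_
  rw [Basic.irr_isConj χ.2 h]

theorem conj_apply_involution {s : G} (hs : s * s = 1) {χ : G → ℂ} (hχ : IsIrrCharacter G χ) :
    conj (χ s) = χ s := by
  rw [← isCharacter_apply_inv (isIrr_isCharacter hχ) s]
  congr 1
  exact inv_eq_of_mul_eq_one_left hs

/-- the sum of the squares over all irreducible characters -/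
theorem sum_sq [Fintype (IrrCharacter G)] {s : G} (hs : s * s = 1) :
    ∑ χ : IrrCharacter G, (χ : G → ℂ) s * (χ : G → ℂ) s =
      (Nat.card (Subgroup.centralizer ({s} : Set G)) : ℂ) := by
  rw [← (S0145.result s s).1 (IsConj.refl s), finsum_eq_sum_of_fintype]
  refine Finset.sum_congr rfl fun χ _ => ?_
  rw [conj_apply_involution hs χ.2]

theorem cnt_one [Fintype (IrrCharacter G)] {s : G} (hs : s * s = 1) :
    cnt s 1 = (Nat.card G : ℂ) * (Nat.card (Subgroup.centralizer ({s} : Set G)) : ℂ) := by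
  rw [cnt_eq_sum, ← sum_sq hs]
  congr 1
  refine Finset.sum_congr rfl fun χ _ => ?_
  obtain ⟨n, hn, h1⟩ := isIrr_apply_one χ.2
  have h0 : (n : ℂ) ≠ 0 := by exact_mod_cast hn.ne'
  rw [h1, Complex.conj_natCast]
  field_simp

open Classical in
/-- The class function `∑ (χ(s)²/χ(1) - κ χ(s)) χ`. -/
theorem sum_eq [Fintype (IrrCharacter G)] {s : G} (hs : s * s = 1) (κ : ℂ) (z : G) :
    ∑ χ : IrrCharacter G, ((χ : G → ℂ) s * (χ : G → ℂ) s / (χ : G → ℂ) 1 - κ * (χ : G → ℂ) s) *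
      (χ : G → ℂ) z = (Nat.card G : ℂ)⁻¹ * cnt s z⁻¹ -
        κ * (if IsConj s z then (Nat.card (Subgroup.centralizer ({s} : Set G)) : ℂ) else 0) := by
  have hne : (Nat.card G : ℂ) ≠ 0 := card_ne_zero_complex
  have h1 : (if IsConj s z then (Nat.card (Subgroup.centralizer ({s} : Set G)) : ℂ) else 0) =
      ∑ χ : IrrCharacter G, (χ : G → ℂ) s * (χ : G → ℂ) z := by
    have h2 : ∑ χ : IrrCharacter G, (χ : G → ℂ) s * (χ : G → ℂ) z =
        conj (∑ᶠ χ : IrrCharacter G, (χ : G → ℂ) s * conj ((χ : G → ℂ) z)) := by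
      rw [finsum_eq_sum_of_fintype, map_sum]
      refine Finset.sum_congr rfl fun χ _ => ?_
      rw [map_mul, Complex.conj_conj, conj_apply_involution hs χ.2]
    rw [h2]
    split_ifs with h
    · rw [(S0145.result s z).1 h, Complex.conj_natCast]
    · rw [(S0145.result s z).2 h, map_zero]
  rw [h1, cnt_eq_sum, inv_mul_cancel_left₀ hne, Finset.mul_sum, ← Finset.sum_sub_distrib]
  refine Finset.sum_congr rfl fun χ _ => ?_
  rw [isCharacter_apply_inv (isIrr_isCharacter χ.2) z, Complex.conj_conj]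
  ring

/-- The relation inside the principal block. -/
theorem block_relation {M : Ideal AlgInt} (hM : IsPModular 2 M) {s : G} (hs : s * s = 1)
    (h1 : ∀ a b x : G, IsPPart 2 (a * s * a⁻¹ * (b * s * b⁻¹)) x → x ≠ 1 →
      IsConj s (a * s * a⁻¹ * (b * s * b⁻¹)))
    (u : G) (hu : ∃ k : ℕ, orderOf u = 2 ^ k) (hu1 : u ≠ 1) :
    ∑ᶠ χ ∈ principalBlock M G, ((χ : G → ℂ) s * (χ : G → ℂ) s / (χ : G → ℂ) 1 -
      ((Nat.card G : ℂ)⁻¹ * cnt s s * (Nat.card (Subgroup.centralizer ({s} : Set G)) : ℂ)⁻¹) *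
        (χ : G → ℂ) s) * (χ : G → ℂ) u = 0 := by
  classical
  haveI : Fact (Nat.Prime 2) := ⟨Nat.prime_two⟩
  have : Finite (IrrCharacter G) := finite_irr
  haveI := Fintype.ofFinite (IrrCharacter G)
  haveI := Fintype.ofFinite G
  set κ : ℂ := (Nat.card G : ℂ)⁻¹ * cnt s s *
    (Nat.card (Subgroup.centralizer ({s} : Set G)) : ℂ)⁻¹ with hκ
  set c : IrrCharacter G → ℂ := fun χ =>
    (χ : G → ℂ) s * (χ : G → ℂ) s / (χ : G → ℂ) 1 - κ * (χ : G → ℂ) s with hc
  set θ : G → ℂ := ∑ χ : IrrCharacter G, c χ • (χ : G → ℂ) with hθ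
  have hθval : ∀ z, θ z = ∑ χ : IrrCharacter G,
      ((χ : G → ℂ) s * (χ : G → ℂ) s / (χ : G → ℂ) 1 - κ * (χ : G → ℂ) s) * (χ : G → ℂ) z := by
    intro z
    rw [hθ]
    simp only [Finset.sum_apply, Pi.smul_apply, smul_eq_mul, hc]
  have hθcl : IsClassFunction G θ := by
    intro g h
    rw [hθ]
    simp only [Finset.sum_apply, Pi.smul_apply]
    refine Finset.sum_congr rfl fun χ _ => ?_
    rw [Basic.irr_conj χ.2]
  have hsinv : s⁻¹ = s := inv_eq_of_mul_eq_one_left hs
  have hzero : ∀ z y : G, IsPPart 2 z y → y ≠ 1 → θ z = 0 := by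
    intro z y hzy hy
    rw [hθval, sum_eq hs κ z]
    by_cases hz : IsConj s z
    · have hz' : IsConj s z⁻¹ := by
        obtain ⟨g, hg⟩ := isConj_iff.1 hz
        refine isConj_iff.2 ⟨g, ?_⟩
        rw [← hg]
        simp only [mul_inv_rev, inv_inv, hsinv, mul_assoc]
      rw [if_pos hz, ← cnt_isConj hz', hκ]
      have hcc : (Nat.card (Subgroup.centralizer ({s} : Set G)) : ℂ) ≠ 0 := by
        exact_mod_cast Nat.card_pos.ne'
      field_simp
      ring
    · rw [if_neg hz, mul_zero, sub_zero]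
      have : cnt s z⁻¹ = 0 := by
        apply cnt_eq_zero
        intro a b hab
        have hy' : IsPPart 2 z⁻¹ y⁻¹ := by
          obtain ⟨w, rfl, hcm, ⟨k, hk⟩, hw⟩ := hzy
          refine ⟨w⁻¹, ?_, hcm.inv_inv, ⟨k, by rw [orderOf_inv, hk]⟩, by rwa [orderOf_inv]⟩
          rw [← mul_inv_rev, hcm.eq]
        rw [← hab] at hy'
        have h2 := h1 a b y⁻¹ hy' (by simpa using hy)
        rw [hab] at h2
        apply hz
        obtain ⟨g, hg⟩ := isConj_iff.1 h2
        refine isConj_iff.2 ⟨g, ?_⟩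
        have := congrArg (·⁻¹) hg
        simp only [mul_inv_rev, inv_inv, hsinv, mul_assoc] at this
        rw [mul_assoc]
        exact this
      rw [this, mul_zero]
  have key := (S0925.result (G := G) 2 M hM).1 θ hθcl u hu
    (fun v z hvz hxz => hzero v z hvz (fun h => hu1 (by
      rw [h] at hxz
      exact isConj_one_left.1 hxz)))
    (principalBlock M G) PrincipalSection.isPBlock_principalBlock u u
    (PPart.isPPart_of_isPGroup hu) (IsConj.refl u)
  rw [← key]
  unfold blockPart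
  refine finsum_mem_congr rfl fun χ _ => ?_
  have h6 : ∀ inst : Fintype G, @classInner G _ inst θ (χ : G → ℂ) = c χ :=
    fun inst => @classInner_sum_smul_irr G _ inst _ c χ
  rw [h6]

/-- if the sum of a character over a subgroup is the order times the degree (real parts) then the
subgroup is in the kernel -/
theorem apply_eq_of_sum_re {χ : G → ℂ} (hχ : IsCharacter G χ) (N : Subgroup G) [Fintype N]
    (h : ∑ n : N, ((χ 1).re - (χ n).re) = 0) (n : G) (hn : n ∈ N) : χ n = χ 1 := by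
  have hle : ∀ x : G, (χ x).re ≤ (χ 1).re := by
    intro x
    obtain ⟨n, ρ, rfl⟩ := hχ
    have h1 := Characters.Values.norm_character_le ρ x
    rw [Representation.char_one, Complex.natCast_re]
    exact (Complex.re_le_norm _).trans h1
  have h0 : ∀ x ∈ (Finset.univ : Finset N), 0 ≤ (χ 1).re - (χ (x : G)).re :=
    fun x _ => sub_nonneg.2 (hle x)
  have h1 := (Finset.sum_eq_zero_iff_of_nonneg h0).1 h ⟨n, hn⟩ (Finset.mem_univ _)
  apply PrincipalKernel.apply_eq_of_re_eq hχ
  have h2 : (χ 1).re - (χ n).re = 0 := h1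
  linarith

theorem sum_re_nonneg {χ : G → ℂ} (hχ : IsCharacter G χ) (N : Subgroup G) [Fintype N] :
    0 ≤ ∑ n : N, ((χ 1).re - (χ n).re) := by
  refine Finset.sum_nonneg fun x _ => sub_nonneg.2 ?_
  obtain ⟨n, ρ, rfl⟩ := hχ
  have h1 := Characters.Values.norm_character_le ρ (x : G)
  rw [Representation.char_one, Complex.natCast_re]
  exact (Complex.re_le_norm _).trans h1

open Classical in
/-- **Main counting argument.** -/
theorem main {M : Ideal AlgInt} (hM : IsPModular 2 M) {s : G} (hs : s * s = 1) (hs1 : s ≠ 1)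
    (P N : Subgroup G) [Fintype P] [Fintype N] (hP : IsPGroup 2 P)
    (h1 : ∀ a b x : G, IsPPart 2 (a * s * a⁻¹ * (b * s * b⁻¹)) x → x ≠ 1 →
      IsConj s (a * s * a⁻¹ * (b * s * b⁻¹)))
    (h2 : ∀ u ∈ P, ∀ n ∈ N, ∀ a b : G, a * s * a⁻¹ * (b * s * b⁻¹) = u * n →
      n = 1 ∧ (u = 1 ∨ IsConj s u))
    (hN : ∀ χ ∈ principalBlock M G, ∀ u ∈ P, u ≠ 1 → ∀ n ∈ N,
      (χ : G → ℂ) (u * n) = (χ : G → ℂ) u)
    (hE : ∀ χ : IrrCharacter G, χ ∉ principalBlock M G → (χ : G → ℂ) s = 0 ∨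
      ∑ u : P, ∑ n : N, (χ : G → ℂ) (u * n) = 0)
    (hT : (Nat.card N : ℂ) * ∑ᶠ χ ∈ principalBlock M G, (χ : G → ℂ) s * conj ((χ : G → ℂ) s) =
      (Nat.card (Subgroup.centralizer ({s} : Set G)) : ℂ))
    (χ : IrrCharacter G) (hχ : χ ∈ principalBlock M G) :
    (χ : G → ℂ) s = 0 ∨ ∀ n ∈ N, (χ : G → ℂ) n = (χ : G → ℂ) 1 := by
  haveI : Fact (Nat.Prime 2) := ⟨Nat.prime_two⟩
  have : Finite (IrrCharacter G) := finite_irr
  haveI := Fintype.ofFinite (IrrCharacter G)
  haveI := Fintype.ofFinite G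
  have hsinv : s⁻¹ = s := inv_eq_of_mul_eq_one_left hs
  set B : Finset (IrrCharacter G) := Finset.univ.filter (· ∈ principalBlock M G) with hB
  have hBmem : ∀ ψ : IrrCharacter G, ψ ∈ B ↔ ψ ∈ principalBlock M G := by
    intro ψ; simp [hB]
  have hfin : ∀ f : IrrCharacter G → ℂ, ∑ᶠ ψ ∈ principalBlock M G, f ψ = ∑ ψ ∈ B, f ψ := by
    intro f
    rw [finsum_mem_eq_toFinset_sum]
    refine Finset.sum_congr ?_ fun _ _ => rfl
    ext ψ
    rw [Set.mem_toFinset, hBmem]
  set ω : IrrCharacter G → ℂ := fun ψ => (ψ : G → ℂ) s * (ψ : G → ℂ) s / (ψ : G → ℂ) 1 with hω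
  set C : ℂ := (Nat.card (Subgroup.centralizer ({s} : Set G)) : ℂ) with hC
  have hC0 : C ≠ 0 := by rw [hC]; exact_mod_cast Nat.card_pos.ne'
  have hG0 : (Nat.card G : ℂ) ≠ 0 := card_ne_zero_complex
  set κ : ℂ := (Nat.card G : ℂ)⁻¹ * cnt s s * C⁻¹ with hκ
  set T : ℂ := ∑ ψ ∈ B, (ψ : G → ℂ) s * (ψ : G → ℂ) s with hTdef
  have hT' : (Nat.card N : ℂ) * T = C := by
    rw [← hT, hfin]
    congr 1
    refine Finset.sum_congr rfl fun ψ _ => ?_
    rw [conj_apply_involution hs ψ.2]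
  -- values on `P`
  have hPel : ∀ u : P, ∃ k : ℕ, orderOf (u : G) = 2 ^ k := by
    intro u
    obtain ⟨k, hk⟩ := IsPGroup.iff_orderOf.1 hP u
    exact ⟨k, by rw [← hk, Subgroup.orderOf_coe]⟩
  have hΩ : ∀ u : P, (u : G) ≠ 1 → ∑ ψ ∈ B, ω ψ * (ψ : G → ℂ) u =
      if IsConj s (u : G) then κ * T else 0 := by
    intro u hu
    have h3 := block_relation hM hs h1 u (hPel u) hu
    rw [hfin] at h3
    have h4 : ∑ ψ ∈ B, ω ψ * (ψ : G → ℂ) u = κ * ∑ ψ ∈ B, (ψ : G → ℂ) s * (ψ : G → ℂ) u := by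
      rw [← sub_eq_zero, Finset.mul_sum, ← Finset.sum_sub_distrib]
      rw [← h3]
      refine Finset.sum_congr rfl fun ψ _ => ?_
      ring
    rw [h4]
    split_ifs with hcj
    · congr 1
      refine Finset.sum_congr rfl fun ψ _ => ?_
      rw [← Basic.irr_isConj ψ.2 hcj]
    · have h5 := (S0925.result (G := G) 2 M hM).2 u s u s
        (PPart.isPPart_of_isPGroup (hPel u)) (PPart.isPPart_of_isPGroup ⟨1, by
          rw [pow_one]
          exact orderOf_eq_prime (by rw [pow_two]; exact hs) hs1⟩)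
        (fun h => hcj h.symm) (principalBlock M G) PrincipalSection.isPBlock_principalBlock
      rw [hfin, hsinv] at h5
      have h6 : ∑ ψ ∈ B, (ψ : G → ℂ) s * (ψ : G → ℂ) u = 0 := by
        rw [← h5]
        exact Finset.sum_congr rfl fun ψ _ => mul_comm _ _
      rw [h6, mul_zero]
  -- the number of conjugates of `s` in `P`
  set e : ℂ := ∑ u : P, if IsConj s (u : G) then 1 else 0 with he
  have hcs1 : ¬ IsConj s 1 := fun h => hs1 (isConj_one_left.1 h)
  -- total count
  have htot : ∑ ψ : IrrCharacter G, ω ψ * ∑ u : P, ∑ n : N, (ψ : G → ℂ) (u * n) =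
      C + e * (κ * C) := by
    have h3 : ∑ ψ : IrrCharacter G, ω ψ * ∑ u : P, ∑ n : N, (ψ : G → ℂ) (u * n) =
        ∑ u : P, ∑ n : N, (Nat.card G : ℂ)⁻¹ * cnt s ((u : G) * n)⁻¹ := by
      simp only [Finset.mul_sum]
      rw [Finset.sum_comm]
      refine Finset.sum_congr rfl fun u _ => ?_
      rw [Finset.sum_comm]
      refine Finset.sum_congr rfl fun n _ => ?_
      have h4 := sum_eq hs 0 ((u : G) * n)
      simp only [zero_mul, sub_zero] at h4
      exact h4
    have h5 : ∀ u : P, ∑ n : N, (Nat.card G : ℂ)⁻¹ * cnt s ((u : G) * n)⁻¹ =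
        (if (u : G) = 1 then C else 0) + (if IsConj s (u : G) then κ * C else 0) := by
      intro u
      rw [Finset.sum_eq_single (1 : N)]
      · rw [Subgroup.coe_one, mul_one]
        by_cases hu1 : (u : G) = 1
        · rw [if_pos hu1, hu1, if_neg hcs1, inv_one, cnt_one hs, add_zero,
            inv_mul_cancel_left₀ hG0]
        · rw [if_neg hu1, zero_add]
          split_ifs with hcj
          · have hcj' : IsConj s (u : G)⁻¹ := by
              obtain ⟨g, hg⟩ := isConj_iff.1 hcj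
              refine isConj_iff.2 ⟨g, ?_⟩
              rw [← hg]
              simp only [mul_inv_rev, inv_inv, hsinv, mul_assoc]
            rw [← cnt_isConj hcj', hκ]
            field_simp
          · rw [cnt_eq_zero, mul_zero]
            intro a b hab
            have h6 := (h2 (u : G)⁻¹ (P.inv_mem u.2) 1 N.one_mem a b (by rw [hab, mul_one])).2
            rcases h6 with h6 | h6
            · exact hu1 (inv_eq_one.1 h6)
            · apply hcj
              obtain ⟨g, hg⟩ := isConj_iff.1 h6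
              refine isConj_iff.2 ⟨g, ?_⟩
              have := congrArg (·⁻¹) hg
              simp only [mul_inv_rev, inv_inv, hsinv, mul_assoc] at this
              rw [mul_assoc]
              exact this
      · intro n _ hn
        rw [cnt_eq_zero, mul_zero]
        intro a b hab
        -- `s^b s^a = u n`
        have h6 : b * s * b⁻¹ * (a * s * a⁻¹) = (u : G) * n := by
          have := congrArg (·⁻¹) hab
          simp only [mul_inv_rev, inv_inv, hsinv] at this
          rw [← this]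
          simp only [mul_assoc]
        have h7 := (h2 u u.2 n n.2 b a h6).1
        exact hn (Subtype.ext h7)
      · intro h
        exact absurd (Finset.mem_univ _) h
    rw [h3, Finset.sum_congr rfl fun u _ => h5 u, Finset.sum_add_distrib]
    congr 1
    · rw [Finset.sum_eq_single (1 : P)]
      · rw [if_pos (by simp)]
      · intro u _ hu
        have h0 : (u : G) ≠ 1 := fun h => hu (Subtype.ext h)
        rw [if_neg h0]
      · intro h
        exact absurd (Finset.mem_univ _) h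
    · rw [he, Finset.sum_mul]
      refine Finset.sum_congr rfl fun u _ => ?_
      split_ifs <;> simp
  -- only the principal block contributes
  have hB0 : ∑ ψ : IrrCharacter G, ω ψ * ∑ u : P, ∑ n : N, (ψ : G → ℂ) (u * n) =
      ∑ ψ ∈ B, ω ψ * ∑ u : P, ∑ n : N, (ψ : G → ℂ) (u * n) := by
    symm
    refine Finset.sum_subset (Finset.subset_univ _) fun ψ _ hψ => ?_
    rw [hBmem] at hψ
    rcases hE ψ hψ with h | h
    · simp only [hω, h, zero_mul, zero_div]
    · rw [h, mul_zero]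
  -- split off `u = 1`
  have hsplit : ∀ ψ ∈ B, ∑ u : P, ∑ n : N, (ψ : G → ℂ) (u * n) =
      ∑ n : N, (ψ : G → ℂ) n + (Nat.card N : ℂ) *
        ∑ u ∈ (Finset.univ : Finset P).erase 1, (ψ : G → ℂ) u := by
    intro ψ hψ
    rw [← Finset.add_sum_erase Finset.univ _ (Finset.mem_univ (1 : P))]
    congr 1
    · refine Finset.sum_congr rfl fun n _ => ?_
      rw [Subgroup.coe_one, one_mul]
    · rw [Finset.mul_sum]
      refine Finset.sum_congr rfl fun u hu => ?_
      have hu1 : (u : G) ≠ 1 := fun h => (Finset.mem_erase.1 hu).1 (Subtype.ext h)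
      have h3 : ∀ n : N, (ψ : G → ℂ) (u * n) = (ψ : G → ℂ) u := fun n =>
        hN ψ ((hBmem ψ).1 hψ) u u.2 hu1 n n.2
      rw [Finset.sum_congr rfl fun n _ => h3 n, Finset.sum_const, nsmul_eq_mul, Finset.card_univ,
        ← Nat.card_eq_fintype_card]
  have hsum1 : ∑ ψ ∈ B, ω ψ * ∑ n : N, (ψ : G → ℂ) n = C := by
    have h3 : ∑ ψ ∈ B, ω ψ * ∑ u : P, ∑ n : N, (ψ : G → ℂ) (u * n) =
        ∑ ψ ∈ B, ω ψ * ∑ n : N, (ψ : G → ℂ) n + (Nat.card N : ℂ) *
          ∑ u ∈ (Finset.univ : Finset P).erase 1, ∑ ψ ∈ B, ω ψ * (ψ : G → ℂ) u := by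
      rw [Finset.sum_comm (s := (Finset.univ : Finset P).erase 1), Finset.mul_sum,
        ← Finset.sum_add_distrib]
      refine Finset.sum_congr rfl fun ψ hψ => ?_
      rw [hsplit ψ hψ, ← Finset.mul_sum]
      ring
    have h4 : ∑ u ∈ (Finset.univ : Finset P).erase 1, ∑ ψ ∈ B, ω ψ * (ψ : G → ℂ) u =
        e * (κ * T) := by
      have h5 : ∀ u ∈ (Finset.univ : Finset P).erase 1, ∑ ψ ∈ B, ω ψ * (ψ : G → ℂ) u =
          (if IsConj s (u : G) then 1 else 0) * (κ * T) := by
        intro u hu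
        rw [hΩ u (fun h => (Finset.mem_erase.1 hu).1 (Subtype.ext h))]
        split_ifs <;> simp
      rw [Finset.sum_congr rfl h5, ← Finset.sum_mul, he,
        ← Finset.add_sum_erase Finset.univ _ (Finset.mem_univ (1 : P)), Subgroup.coe_one,
        if_neg hcs1, zero_add]
    rw [hB0, h3, h4] at htot
    linear_combination htot - e * κ * hT'
  -- comparison
  have hsum2 : ∑ ψ ∈ B, ω ψ * ∑ n : N, ((ψ : G → ℂ) 1 - (ψ : G → ℂ) n) = 0 := by
    have h3 : ∀ ψ ∈ B, ω ψ * ∑ n : N, ((ψ : G → ℂ) 1 - (ψ : G → ℂ) n) =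
        (Nat.card N : ℂ) * ((ψ : G → ℂ) s * (ψ : G → ℂ) s) - ω ψ * ∑ n : N, (ψ : G → ℂ) n := by
      intro ψ _
      have h1' := isIrr_apply_one_ne_zero ψ.2
      rw [Finset.sum_sub_distrib, Finset.sum_const, nsmul_eq_mul, Finset.card_univ,
        ← Nat.card_eq_fintype_card, hω]
      field_simp
    rw [Finset.sum_congr rfl h3, Finset.sum_sub_distrib, ← Finset.mul_sum, hsum1, hT', sub_self]
  -- positivity
  have hre : ∀ ψ ∈ B, (ω ψ * ∑ n : N, ((ψ : G → ℂ) 1 - (ψ : G → ℂ) n)).re =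
      (((ψ : G → ℂ) s).re ^ 2 / ((ψ : G → ℂ) 1).re) *
        ∑ n : N, (((ψ : G → ℂ) 1).re - ((ψ : G → ℂ) n).re) := by
    intro ψ _
    have h3 : ((ψ : G → ℂ) s) = ((((ψ : G → ℂ) s).re : ℝ) : ℂ) :=
      (Complex.conj_eq_iff_re.1 (conj_apply_involution hs ψ.2)).symm
    obtain ⟨m, hm, h4⟩ := isIrr_apply_one ψ.2
    have h5 : ω ψ = (((((ψ : G → ℂ) s).re ^ 2 / ((ψ : G → ℂ) 1).re : ℝ)) : ℂ) := by
      simp only [hω]
      rw [h4, Complex.natCast_re]
      nth_rewrite 1 [h3]
      nth_rewrite 2 [h3]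
      push_cast
      ring
    rw [h5, Complex.re_ofReal_mul, Complex.re_sum]
    simp only [Complex.sub_re]
  have hnonneg : ∀ ψ ∈ B, 0 ≤ (ω ψ * ∑ n : N, ((ψ : G → ℂ) 1 - (ψ : G → ℂ) n)).re := by
    intro ψ hψ
    rw [hre ψ hψ]
    obtain ⟨m, hm, h4⟩ := isIrr_apply_one ψ.2
    refine mul_nonneg (div_nonneg (sq_nonneg _) ?_) (sum_re_nonneg (isIrr_isCharacter ψ.2) N)
    rw [h4, Complex.natCast_re]
    exact Nat.cast_nonneg _
  have hz := congrArg Complex.re hsum2
  rw [Complex.re_sum, Complex.zero_re] at hz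
  have hz1 := (Finset.sum_eq_zero_iff_of_nonneg hnonneg).1 hz χ ((hBmem χ).2 hχ)
  rw [hre χ ((hBmem χ).2 hχ)] at hz1
  rcases mul_eq_zero.1 hz1 with h3 | h3
  · left
    have h4 : ((χ : G → ℂ) s).re = 0 := by
      obtain ⟨m, hm, h5⟩ := isIrr_apply_one χ.2
      rcases div_eq_zero_iff.1 h3 with h6 | h6
      · exact pow_eq_zero_iff (two_ne_zero) |>.1 h6
      · rw [h5, Complex.natCast_re] at h6
        exact absurd (by exact_mod_cast h6) hm.ne'
    have h6 : ((χ : G → ℂ) s) = ((((χ : G → ℂ) s).re : ℝ) : ℂ) :=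
      (Complex.conj_eq_iff_re.1 (conj_apply_involution hs χ.2)).symm
    rw [h6, h4, Complex.ofReal_zero]
  · right
    exact apply_eq_of_sum_re (isIrr_isCharacter χ.2) N h3

end Cfsg.Agent.SuzukiRankOne.M1Count
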