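import Mathlib
import Cfsg.Prelude.Def_Characters
import Cfsg.Agent.Characters.Core
import Cfsg.Agent.OddOrderCharacters.Clifford
import Cfsg.Agent.Blocks.Deflate
import Cfsg.Agent.S0148

/-!
# Constituents of `λ^G` for a two-transitive group with point stabiliser `H` and `λ ∈ Irr(H/L)`

* `norm_le_two` : `⟨λ^G, λ^G⟩ ≤ 2`.
* `apply_eq_zero` : if `X` is an irreducible constituent of `λ^G` outside of the set `B`, if the
  averages of the characters outside `B` over `sN` vanish and the characters in `B` are constant on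
  `sN`, then `X s = 0`.
-/

set_option autoImplicit false

open Cfsg
open scoped ComplexConjugate

namespace Cfsg.Agent.SuzukiRankOne.M1Mackey

open Cfsg.Agent.OddOrderCharacters.Clifford Cfsg.Agent.Characters

variable {G : Type*} [Group G]

theorem twist_eq_mul [Finite G] (T : Subgroup G) [Fintype T] (α β : T → ℂ) (x : G)
    [Fintype (dsub T x)] :
    twist T α β x = (Nat.card (dsub T x) : ℂ) *
      classInner (α ∘ (dsub T x).subtype) (β ∘ dhom T x) := by
  classical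
  rw [classInner_apply, mul_inv_cancel_left₀ card_ne_zero', twist_def,
    sum_eq_sum_subgroup (dsub T x)]
  · refine Finset.sum_congr rfl fun d _ => ?_
    rw [ext_apply_mem T β _ ((mem_dsub T x d).1 d.2)]
    rfl
  · intro t ht
    rw [mem_dsub] at ht
    rw [ext_apply_not_mem T β _ ht, map_zero, mul_zero]

/-- The hypothesis `H = L (H ∩ x H x⁻¹)` for `x ∉ H`. -/
def Frattini (H L : Subgroup G) : Prop :=
  ∀ x : G, x ∉ H → ∀ h ∈ H, ∃ d ∈ H, x⁻¹ * d * x ∈ H ∧ d⁻¹ * h ∈ L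

theorem isIrr_sub (H L : Subgroup G) [(L.subgroupOf H).Normal] (hF : Frattini H L)
    (μ : H ⧸ L.subgroupOf H → ℂ) (hμ : IsIrrCharacter (H ⧸ L.subgroupOf H) μ) (x : G)
    (hx : x ∉ H) :
    IsIrrCharacter (dsub H x) ((μ ∘ QuotientGroup.mk' (L.subgroupOf H)) ∘ (dsub H x).subtype) := by
  refine Core.isIrr_comp ((QuotientGroup.mk' (L.subgroupOf H)).comp (dsub H x).subtype) ?_ hμ
  intro y
  obtain ⟨h, rfl⟩ := QuotientGroup.mk_surjective y
  obtain ⟨d, hd, hdx, hdl⟩ := hF x hx h h.2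
  refine ⟨⟨⟨d, hd⟩, (mem_dsub H x _).2 hdx⟩, ?_⟩
  change (QuotientGroup.mk (⟨d, hd⟩ : H) : H ⧸ L.subgroupOf H) = QuotientGroup.mk h
  rw [QuotientGroup.eq]
  rw [Subgroup.mem_subgroupOf]
  exact hdl

theorem isIrr_hom (H L : Subgroup G) [(L.subgroupOf H).Normal] (hF : Frattini H L)
    (μ : H ⧸ L.subgroupOf H → ℂ) (hμ : IsIrrCharacter (H ⧸ L.subgroupOf H) μ) (x : G)
    (hx : x ∉ H) :
    IsIrrCharacter (dsub H x) ((μ ∘ QuotientGroup.mk' (L.subgroupOf H)) ∘ dhom H x) := by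
  refine Core.isIrr_comp ((QuotientGroup.mk' (L.subgroupOf H)).comp (dhom H x)) ?_ hμ
  intro y
  obtain ⟨h, rfl⟩ := QuotientGroup.mk_surjective y
  have hx' : x⁻¹ ∉ H := fun h => hx (by simpa using H.inv_mem h)
  obtain ⟨d, hd, hdx, hdl⟩ := hF x⁻¹ hx' h h.2
  rw [inv_inv] at hdx
  have hmem : (⟨x * d * x⁻¹, hdx⟩ : H) ∈ dsub H x := by
    rw [mem_dsub]
    have : x⁻¹ * (x * d * x⁻¹) * x = d := by group
    change x⁻¹ * (x * d * x⁻¹) * x ∈ H
    rw [this]
    exact hd
  refine ⟨⟨⟨x * d * x⁻¹, hdx⟩, hmem⟩, ?_⟩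
  change (QuotientGroup.mk (⟨x⁻¹ * (x * d * x⁻¹) * x, _⟩ : H) : H ⧸ L.subgroupOf H) =
    QuotientGroup.mk h
  rw [QuotientGroup.eq]
  rw [Subgroup.mem_subgroupOf]
  change (x⁻¹ * (x * d * x⁻¹) * x)⁻¹ * (h : G) ∈ L
  have : x⁻¹ * (x * d * x⁻¹) * x = d := by group
  rw [this]
  exact hdl

/-- The norm of `λ^G` is at most two. -/
theorem norm_le_two [Fintype G] (H L : Subgroup G) [(L.subgroupOf H).Normal]
    (hF : Frattini H L) (c : ℕ) (hc : ∀ x : G, x ∉ H → Nat.card (dsub H x) ≤ c)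
    (hc2 : c * Nat.card G ≤ Nat.card H ^ 2 + c * Nat.card H)
    (μ : H ⧸ L.subgroupOf H → ℂ) (hμ : IsIrrCharacter (H ⧸ L.subgroupOf H) μ) :
    (classInner (indFun H (μ ∘ QuotientGroup.mk' (L.subgroupOf H)))
      (indFun H (μ ∘ QuotientGroup.mk' (L.subgroupOf H)))).re ≤ 2 := by
  classical
  have : Fintype H := Fintype.ofFinite H
  set φ : H → ℂ := μ ∘ QuotientGroup.mk' (L.subgroupOf H) with hφ
  have hφi : IsIrrCharacter H φ :=
    Core.isIrr_comp (QuotientGroup.mk' (L.subgroupOf H)) (QuotientGroup.mk'_surjective _) hμ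
  rw [classInner_indFun_indFun]
  have hre : ((Nat.card H : ℂ)⁻¹ * ((Nat.card H : ℂ)⁻¹ * ∑ x : G, twist H φ φ x)).re =
      (Nat.card H : ℝ)⁻¹ * ((Nat.card H : ℝ)⁻¹ * ∑ x : G, (twist H φ φ x).re) := by
    have h1 : ((Nat.card H : ℂ)⁻¹) = (((Nat.card H : ℝ)⁻¹ : ℝ) : ℂ) := by push_cast; rfl
    rw [h1, Complex.re_ofReal_mul, Complex.re_ofReal_mul, Complex.re_sum]
  rw [hre]
  have hbound : ∀ x : G, (twist H φ φ x).re ≤ if x ∈ H then (Nat.card H : ℝ) else c := by
    intro x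
    split_ifs with hx
    · rw [twist_of_mem H φ φ (Core.isIrr_isClassFunction hφi) x hx, Core.classInner_irr_self hφi,
        mul_one, Complex.natCast_re]
    · have : Fintype (dsub H x) := Fintype.ofFinite _
      rw [twist_eq_mul, Core.classInner_irr (isIrr_sub H L hF μ hμ x hx)
        (isIrr_hom H L hF μ hμ x hx)]
      split_ifs
      · rw [mul_one, Complex.natCast_re]
        exact_mod_cast hc x hx
      · simp
  have hsum : ∑ x : G, (twist H φ φ x).re ≤
      (Nat.card H : ℝ) * Nat.card H + ((Nat.card G : ℝ) - Nat.card H) * c := by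
    refine (Finset.sum_le_sum fun x _ => hbound x).trans ?_
    rw [← Finset.sum_filter_add_sum_filter_not Finset.univ (fun x => x ∈ H)]
    rw [Finset.sum_congr rfl (g := fun _ => (Nat.card H : ℝ)) (fun x hx => by
      rw [if_pos (Finset.mem_filter.1 hx).2]), Finset.sum_congr rfl (g := fun _ => (c : ℝ))
      (s₁ := Finset.univ.filter (fun x => ¬ x ∈ H)) (fun x hx => by
      rw [if_neg (Finset.mem_filter.1 hx).2]), Finset.sum_const, Finset.sum_const, nsmul_eq_mul,
      nsmul_eq_mul]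
    have h1 : ((Finset.univ.filter (fun x => x ∈ H)).card : ℝ) = Nat.card H := by
      rw [Nat.card_eq_fintype_card, Fintype.card_subtype]
    have h2 : ((Finset.univ.filter (fun x => ¬ x ∈ H)).card : ℝ) = Nat.card G - Nat.card H := by
      have h3 := Finset.card_filter_add_card_filter_not (s := (Finset.univ : Finset G))
        (p := fun x => x ∈ H)
      have h4 : ((Finset.univ.filter (fun x => x ∈ H)).card : ℝ) +
          ((Finset.univ.filter (fun x => ¬ x ∈ H)).card : ℝ) = Nat.card G := by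
        rw [Nat.card_eq_fintype_card, ← Finset.card_univ, ← h3]
        push_cast
        rfl
      rw [h1] at h4
      linarith
    rw [h1, h2]
  have hc2' : (c : ℝ) * Nat.card G ≤ (Nat.card H : ℝ) ^ 2 + c * Nat.card H := by
    exact_mod_cast hc2
  have hH : (0 : ℝ) < Nat.card H := by exact_mod_cast Nat.card_pos
  rw [← mul_assoc, ← mul_inv, inv_mul_le_iff₀ (by positivity)]
  nlinarith

/-- `λ^G` at an element of `L` which moves all points except the one fixed by `H`. -/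
theorem indFun_eq [Fintype G] (H L : Subgroup G) [(L.subgroupOf H).Normal] (hLH : L ≤ H)
    (μ : H ⧸ L.subgroupOf H → ℂ) (g : G) (hg : g ∈ L) (hfix : ∀ x : G, x ∉ H → x⁻¹ * g * x ∉ H) :
    indFun H (μ ∘ QuotientGroup.mk' (L.subgroupOf H)) g = μ 1 := by
  classical
  have : Fintype H := Fintype.ofFinite H
  have hn : (L.subgroupOf H).Normal := inferInstance
  rw [OddOrderCharacters.Clifford.indFun_apply, sum_eq_sum_subgroup H]
  · have h1 : ∀ x : H, extendByZero H (μ ∘ QuotientGroup.mk' (L.subgroupOf H))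
        ((x : G)⁻¹ * g * x) = μ 1 := by
      intro x
      have hm : (x : G)⁻¹ * g * x ∈ H := H.mul_mem (H.mul_mem (H.inv_mem x.2) (hLH hg)) x.2
      rw [ext_apply_mem H _ _ hm]
      have h2 : (⟨(x : G)⁻¹ * g * x, hm⟩ : H) ∈ L.subgroupOf H := by
        have := hn.conj_mem ⟨g, hLH hg⟩ (Subgroup.mem_subgroupOf.2 hg) x⁻¹
        have h3 : (⟨(x : G)⁻¹ * g * x, hm⟩ : H) = x⁻¹ * ⟨g, hLH hg⟩ * x⁻¹⁻¹ := by
          apply Subtype.ext
          simp
        rw [h3]
        exact this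
      change μ (QuotientGroup.mk (⟨(x : G)⁻¹ * g * x, hm⟩ : H)) = μ 1
      rw [(QuotientGroup.eq_one_iff _).2 h2]
    rw [Finset.sum_congr rfl fun x _ => h1 x, Finset.sum_const, nsmul_eq_mul, Finset.card_univ,
      ← Nat.card_eq_fintype_card, inv_mul_cancel_left₀ card_ne_zero']
  · intro x hx
    exact ext_apply_not_mem H _ _ (hfix x hx)

/-- A character with non-vanishing sum over `L` is a constituent of some `λ^G`. -/
theorem exists_constituent [Fintype G] (H L : Subgroup G) [(L.subgroupOf H).Normal]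
    [Fintype (L.subgroupOf H)] {X : G → ℂ} (hX : IsIrrCharacter G X)
    (hXL : ∑ z : L.subgroupOf H, X ((z : H) : G) ≠ 0) :
    ∃ μ : IrrCharacter (H ⧸ L.subgroupOf H),
      classInner (indFun H ((μ : H ⧸ L.subgroupOf H → ℂ) ∘ QuotientGroup.mk' (L.subgroupOf H)))
        X ≠ 0 := by
  classical
  have : Fintype H := Fintype.ofFinite H
  have : Finite (IrrCharacter H) := Core.finite_irr
  have := Fintype.ofFinite (IrrCharacter H)
  have hres : IsCharacter H (fun h : H => X h) :=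
    Core.isCharacter_comp H.subtype (Core.isIrr_isCharacter hX)
  obtain ⟨m, hm⟩ := Core.exists_nat_comb hres
  have h1 : ∑ z : L.subgroupOf H, X ((z : H) : G) =
      ∑ ψ : IrrCharacter H, (m ψ : ℂ) * ∑ z : L.subgroupOf H, (ψ : H → ℂ) z := by
    have h2 : ∀ z : L.subgroupOf H, X ((z : H) : G) =
        ∑ ψ : IrrCharacter H, (m ψ : ℂ) * (ψ : H → ℂ) z := by
      intro z
      have := congrFun hm (z : H)
      simp only [Finset.sum_apply, Pi.smul_apply, nsmul_eq_mul] at this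
      exact this
    rw [Finset.sum_congr rfl fun z _ => h2 z, Finset.sum_comm]
    refine Finset.sum_congr rfl fun ψ _ => ?_
    rw [Finset.mul_sum]
  rw [h1] at hXL
  obtain ⟨ψ, -, hψ⟩ := Finset.exists_ne_zero_of_sum_ne_zero hXL
  have hm0 : (m ψ : ℂ) ≠ 0 := left_ne_zero_of_mul hψ
  obtain ⟨μ, hμ⟩ := Blocks.Deflate.exists_deflation (L.subgroupOf H) (ψ : H → ℂ) ψ.2
    (right_ne_zero_of_mul hψ)
  refine ⟨μ, ?_⟩
  have hμ' : ((μ : H ⧸ L.subgroupOf H → ℂ) ∘ QuotientGroup.mk' (L.subgroupOf H)) = (ψ : H → ℂ) :=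
    hμ.symm
  rw [hμ', classInner_indFun H _ X (Core.isIrr_isClassFunction hX), hm,
    ← Core.classInner_conj_symm, Core.classInner_sum_nsmul_irr]
  simpa using hm0

/-- **Vanishing at `s` outside of the set `B`.** -/
theorem apply_eq_zero [Fintype G] (H L : Subgroup G) [(L.subgroupOf H).Normal] (hLH : L ≤ H)
    [Fintype (L.subgroupOf H)]
    (hF : Frattini H L) (c : ℕ) (hc : ∀ x : G, x ∉ H → Nat.card (dsub H x) ≤ c)
    (hc2 : c * Nat.card G ≤ Nat.card H ^ 2 + c * Nat.card H)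
    (s : G) (N : Subgroup G) [Fintype N] (hsN : ∀ n ∈ N, s * n ∈ L)
    (hfix : ∀ n ∈ N, ∀ x : G, x ∉ H → x⁻¹ * (s * n) * x ∉ H)
    (B : Set (IrrCharacter G))
    (hav : ∀ χ : IrrCharacter G, χ ∉ B → ∑ n : N, (χ : G → ℂ) (s * n) = 0)
    (hB : ∀ χ ∈ B, ∀ n ∈ N, (χ : G → ℂ) (s * n) = (χ : G → ℂ) s)
    (X : IrrCharacter G) (hXB : X ∉ B)
    (hXL : ∑ z : L.subgroupOf H, (X : G → ℂ) ((z : H) : G) ≠ 0) :
    (X : G → ℂ) s = 0 := by
  classical
  have : Fintype H := Fintype.ofFinite H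
  obtain ⟨μ, hμ⟩ := exists_constituent H L X.2 hXL
  set φ : H → ℂ := (μ : H ⧸ L.subgroupOf H → ℂ) ∘ QuotientGroup.mk' (L.subgroupOf H) with hφ
  have hφi : IsIrrCharacter H φ :=
    Core.isIrr_comp (QuotientGroup.mk' (L.subgroupOf H)) (QuotientGroup.mk'_surjective _) μ.2
  set Θ := indFun H φ with hΘ
  have hΘc : IsCharacter G Θ := S0148.result H φ (Core.isIrr_isCharacter hφi)
  have hval : ∀ n ∈ N, Θ (s * n) = (μ : H ⧸ L.subgroupOf H → ℂ) 1 := fun n hn =>
    indFun_eq H L hLH _ _ (hsN n hn) (hfix n hn)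
  have hμ1 : (μ : H ⧸ L.subgroupOf H → ℂ) 1 ≠ 0 := Core.isIrr_apply_one_ne_zero μ.2
  have hNc : ((Finset.univ : Finset N).card : ℂ) ≠ 0 := by
    exact_mod_cast (Finset.card_pos.2 ⟨1, Finset.mem_univ _⟩).ne'
  have hsumΘ : ∑ n : N, Θ (s * n) = ((Finset.univ : Finset N).card : ℂ) *
      (μ : H ⧸ L.subgroupOf H → ℂ) 1 := by
    have h0 : ∀ n : N, Θ (s * n) = (μ : H ⧸ L.subgroupOf H → ℂ) 1 := fun n => hval _ n.2
    rw [Finset.sum_congr rfl fun n _ => h0 n, Finset.sum_const, nsmul_eq_mul]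
  have hsumX := hav X hXB
  have hYc : IsCharacter G (Θ - (X : G → ℂ)) := isCharacter_sub_irr hΘc X.2 hμ
  set Y := Θ - (X : G → ℂ) with hY
  have hsumY : ∑ n : N, Y (s * n) = ((Finset.univ : Finset N).card : ℂ) *
      (μ : H ⧸ L.subgroupOf H → ℂ) 1 := by
    simp only [hY, Pi.sub_apply, Finset.sum_sub_distrib, hsumX, hsumΘ, sub_zero]
  obtain ⟨k, hk⟩ := Core.classInner_isNat hYc hYc
  obtain ⟨m, hm⟩ := Core.classInner_isNat hΘc (Core.isIrr_isCharacter X.2)
  have hm0 : m ≠ 0 := by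
    rintro rfl
    exact hμ (by rw [hm, Nat.cast_zero])
  have hk1 : k ≤ 1 := by
    have h1 : classInner Y Y = classInner Θ Θ - m - m + 1 := by
      rw [hY, Core.classInner_sub_left, Core.classInner_sub_right, Core.classInner_sub_right,
        Core.classInner_irr_self X.2, ← Core.classInner_conj_symm Θ (X : G → ℂ), hm,
        Complex.conj_natCast]
      ring
    have h2 := norm_le_two H L hF c hc hc2 (μ : H ⧸ L.subgroupOf H → ℂ) μ.2
    have h3 := congrArg Complex.re h1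
    rw [hk] at h3
    simp only [Complex.natCast_re, Complex.add_re, Complex.sub_re, Complex.one_re] at h3
    have h4 : (1 : ℝ) ≤ m := by exact_mod_cast Nat.one_le_iff_ne_zero.2 hm0
    have h5 : (k : ℝ) ≤ 1 := by
      have : (classInner Θ Θ).re ≤ 2 := h2
      linarith
    exact_mod_cast h5
  interval_cases k
  · -- `Θ = X`
    exfalso
    have h1 : Y = 0 := Core.classInner_self_eq_zero (by rw [hk, Nat.cast_zero])
    rw [h1] at hsumY
    simp only [Pi.zero_apply, Finset.sum_const_zero] at hsumY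
    exact mul_ne_zero hNc hμ1 hsumY.symm
  · have hYi : IsIrrCharacter G Y := Core.isIrr_of_classInner_self hYc (by rw [hk, Nat.cast_one])
    have hYB : (⟨Y, hYi⟩ : IrrCharacter G) ∈ B := by
      by_contra hcon
      have h1 := hav ⟨Y, hYi⟩ hcon
      have h2 : ∑ n : N, Y (s * n) = 0 := h1
      rw [hsumY] at h2
      exact mul_ne_zero hNc hμ1 h2
    have h3 : ∀ n : N, Y (s * n) = Y s := fun n => hB ⟨Y, hYi⟩ hYB n n.2
    rw [Finset.sum_congr rfl fun n _ => h3 n, Finset.sum_const, nsmul_eq_mul] at hsumY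
    have h4 := mul_left_cancel₀ hNc hsumY
    have h5 := hval 1 N.one_mem
    rw [mul_one] at h5
    have h6 : Y s = Θ s - (X : G → ℂ) s := rfl
    rw [h4, h5] at h6
    have h7 : (X : G → ℂ) s = 0 := by linear_combination h6
    exact h7

end Cfsg.Agent.SuzukiRankOne.M1Mackey
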