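import Mathlib
import Cfsg.Prelude.Def_LieRecognition
import Cfsg.Agent.Blocks.ExistsModular
import Cfsg.Agent.LieRecognition.RankOneBasic
import Cfsg.Agent.OddOrderLocal.NilParts
import Cfsg.Agent.SuzukiRankOne.M1Average
import Cfsg.Agent.SuzukiRankOne.M1Mackey
import Cfsg.Agent.SuzukiRankOne.M1Count
import Cfsg.Agent.S0942
import Cfsg.Agent.S1119
import Cfsg.Agent.S1121
import Cfsg.Agent.S1129
import Cfsg.Agent.S1130
import Cfsg.Agent.S1135

/-!
# In the simple rank-one set-up `Q` is a `2`-group (claim M1 for Suzuki's theorem S1136)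

* `core_eq_bot` : `O_{2'}(C(s)) = 1` for an involution `s ∈ G_a`, if `G` is simple.
* `isPGroup_Q` : `Q` is a `2`-group, if `G` is simple.
-/

set_option autoImplicit false

open Cfsg

namespace Cfsg.Agent.SuzukiRankOne.M1Setup

open MulAction Cfsg.Agent.OddOrderLocal.NilParts Cfsg.Agent.LieRecognition.RankOneBasic
open Subgroup (centralizer normalizer)
open scoped ComplexConjugate

variable {G Ω : Type*} [Group G] [Finite G] [MulAction G Ω] {a : Ω} {t : G} {Q : Subgroup G}

theorem fix_unique (hS : IsRankOneSetup G Ω a t Q) {u : G} (hu : u ∈ Q) (hu1 : u ≠ 1) {b : Ω}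
    (hb : u • b = b) : b = a := by
  by_contra hne
  exact hu1 (eq_one_of_smul_eq hS hu hne hb)

theorem centralizer_le (hS : IsRankOneSetup G Ω a t Q) {u : G} (hu : u ∈ Q) (hu1 : u ≠ 1) :
    centralizer ({u} : Set G) ≤ stabilizer G a := by
  intro c hc
  rw [Subgroup.mem_centralizer_singleton_iff] at hc
  rw [mem_stabilizer_iff]
  apply fix_unique hS hu hu1
  rw [← mul_smul, ← hc, mul_smul, mem_stabilizer_iff.1 (hS.le hu)]

/-- The hypotheses on `N = O_{2'}(C(s))` and `P = O_2(Q)`. -/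
structure Local (G Ω : Type*) [Group G] [MulAction G Ω] (a : Ω) (Q : Subgroup G) (s : G)
    (P N : Subgroup G) : Prop where
  pgroup : IsPGroup 2 P
  P_le : P ≤ Q
  s_mem : s ∈ P
  s_ne : s ≠ 1
  s_mul : s * s = 1
  inv_mem : ∀ x ∈ stabilizer G a, x * x = 1 → x ∈ P
  N_le : N ≤ centralizer ({s} : Set G)
  cent_le : centralizer ({s} : Set G) ≤ stabilizer G a
  Q_cent : Q ≤ centralizer ({s} : Set G)
  N_cop : (Nat.card N).Coprime 2
  comm : P ≤ centralizer (N : Set G)
  norm_P : stabilizer G a ≤ normalizer (P : Set G)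
  norm_N : stabilizer G a ≤ normalizer (N : Set G)
  Q_le : Q ≤ P ⊔ N
  odd_le : oP' 2 Q ≤ N

theorem exists_local [FaithfulSMul G Ω] (hS : IsRankOneSetup G Ω a t Q)
    (h2 : ∃ x y : G, x ≠ 1 ∧ y ≠ 1 ∧ x ≠ y ∧ x * x = 1 ∧ y * y = 1 ∧ x * y = y * x)
    {s : G} (hs : s ∈ involutionsIn (stabilizer G a : Set G)) :
    Local G Ω a Q s (oP 2 Q) (centralizerPPrimeCore 2 s) := by
  have : Fact (Nat.Prime 2) := ⟨Nat.prime_two⟩
  have hnil := S1129.result hS h2
  obtain ⟨hsH, hs1, hs2⟩ := hs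
  have hsQ : s ∈ Q := mem_of_mul_self hS hsH hs2
  have hinv : ∀ x ∈ stabilizer G a, x * x = 1 → x ∈ oP 2 Q := fun x hx hx2 =>
    mem_oP hnil (mem_of_mul_self hS hx hx2) (k := 1) (by rw [pow_one, pow_two, hx2])
  have hsP := hinv s hsH hs2
  have hcl : centralizer ({s} : Set G) ≤ stabilizer G a := centralizer_le hS hsQ hs1
  have hQc : Q ≤ centralizer ({s} : Set G) := by
    intro x hx
    rw [Subgroup.mem_centralizer_singleton_iff]
    exact (((S1130.result hS h2).1 s ⟨hsH, hs1, hs2⟩).2 x hx).symm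
  have hHQ : stabilizer G a ≤ normalizer (Q : Set G) := stabilizer_le_normalizer hS
  have hHP : stabilizer G a ≤ normalizer (oP 2 Q : Set G) := hHQ.trans (normalizer_le_oP 2 Q)
  have hN : centralizerPPrimeCore 2 s = oP' 2 (centralizer ({s} : Set G)) := rfl
  rw [hN]
  have hNle : oP' 2 (centralizer ({s} : Set G)) ≤ centralizer ({s} : Set G) := oP'_le 2 _
  have hNc := coprime_oP' 2 (centralizer ({s} : Set G))
  have hCN : centralizer ({s} : Set G) ≤ normalizer (oP' 2 (centralizer ({s} : Set G)) : Set G) :=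
    le_normalizer_oP' 2 _
  have hcomm : oP 2 Q ≤ centralizer (oP' 2 (centralizer ({s} : Set G)) : Set G) :=
    le_centralizer_of_coprime_of_normalize (((oP_le 2 Q).trans hQc).trans hCN)
      ((hNle.trans hcl).trans hHP) (coprime_card_of_isPGroup (isPGroup_oP 2 Q) hNc)
  -- `N = O_{2'}(C_H(P))`
  have hX : stabilizer G a ≤
      normalizer ((centralizer (oP 2 Q : Set G) ⊓ stabilizer G a : Subgroup G) : Set G) :=
    le_normalizer_inf (hHP.trans (normalizer_le_normalizer_centralizer _)) Subgroup.le_normalizer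
  have hXA := hX.trans (normalizer_le_oP' 2 _)
  have hcP : centralizer (oP 2 Q : Set G) ≤ centralizer ({s} : Set G) :=
    Subgroup.centralizer_le (by simpa using hsP)
  have h3 : oP' 2 (centralizer ({s} : Set G)) ≤
      oP' 2 (centralizer (oP 2 Q : Set G) ⊓ stabilizer G a) :=
    le_oP' (le_inf (le_centralizer_symm hcomm) (hNle.trans hcl)) hNc
      ((inf_le_left.trans hcP).trans hCN)
  have h4 : oP' 2 (centralizer (oP 2 Q : Set G) ⊓ stabilizer G a) ≤
      oP' 2 (centralizer ({s} : Set G)) :=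
    le_oP' ((oP'_le 2 _).trans (inf_le_left.trans hcP)) (coprime_oP' 2 _) (hcl.trans hXA)
  have h5 : oP' 2 (centralizer ({s} : Set G)) =
      oP' 2 (centralizer (oP 2 Q : Set G) ⊓ stabilizer G a) := le_antisymm h3 h4
  have hHN : stabilizer G a ≤ normalizer (oP' 2 (centralizer ({s} : Set G)) : Set G) := by
    rw [h5]
    exact hXA
  have hodd : oP' 2 Q ≤ oP' 2 (centralizer ({s} : Set G)) :=
    le_oP' ((oP'_le 2 Q).trans hQc) (coprime_oP' 2 Q)
      ((hcl.trans hHQ).trans (normalizer_le_oP' 2 Q))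
  exact
    { pgroup := isPGroup_oP 2 Q
      P_le := oP_le 2 Q
      s_mem := hsP
      s_ne := hs1
      s_mul := hs2
      inv_mem := hinv
      N_le := hNle
      cent_le := hcl
      Q_cent := hQc
      N_cop := hNc
      comm := hcomm
      norm_P := hHP
      norm_N := hHN
      Q_le := by
        conv_lhs => rw [← oP_sup_oP' hnil 2]
        exact sup_le_sup_left hodd _
      odd_le := hodd }

section

variable {s : G} {P N : Subgroup G} (hL : Local G Ω a Q s P N)

include hL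

omit [Finite G] in
theorem mem_sup_iff (z : G) : z ∈ P ⊔ N ↔ ∃ u ∈ P, ∃ n ∈ N, z = u * n := by
  have hN : N ≤ normalizer (P : Set G) := (hL.N_le.trans hL.cent_le).trans hL.norm_P
  rw [← SetLike.mem_coe, Subgroup.coe_mul_of_right_le_normalizer_left P _ hN]
  constructor
  · rintro ⟨q, hq, d, hd, rfl⟩
    exact ⟨q, hq, d, hd, rfl⟩
  · rintro ⟨q, hq, d, hd, rfl⟩
    exact ⟨q, hq, d, hd, rfl⟩

omit [Finite G] in
theorem sup_le_H (hS : IsRankOneSetup G Ω a t Q) : P ⊔ N ≤ stabilizer G a :=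
  sup_le (hL.P_le.trans hS.le) (hL.N_le.trans hL.cent_le)

omit [Finite G] in
theorem comm_apply {u n : G} (hu : u ∈ P) (hn : n ∈ N) : u * n = n * u :=
  comm_of_le_centralizer hL.comm hu hn

omit [Finite G] in
theorem normal_sup : ((P ⊔ N).subgroupOf (stabilizer G a)).Normal := by
  constructor
  intro z hz h
  rw [Subgroup.mem_subgroupOf] at hz ⊢
  obtain ⟨u, hu, n, hn, hun⟩ := (mem_sup_iff hL _).1 hz
  refine (mem_sup_iff hL _).2 ⟨(h : G) * u * (h : G)⁻¹,
    (Subgroup.mem_normalizer_iff.1 (hL.norm_P h.2) u).1 hu, (h : G) * n * (h : G)⁻¹,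
    (Subgroup.mem_normalizer_iff.1 (hL.norm_N h.2) n).1 hn, ?_⟩
  push_cast
  rw [hun]
  group

theorem inf_eq_bot : P ⊓ N = ⊥ := by
  have : Fact (Nat.Prime 2) := ⟨Nat.prime_two⟩
  exact (Subgroup.disjoint_of_coprime_natCard (coprime_card_of_isPGroup hL.pgroup hL.N_cop)).eq_bot

theorem sum_sup [Fintype P] [Fintype N]
    [Fintype ((P ⊔ N).subgroupOf (stabilizer G a))] (hS : IsRankOneSetup G Ω a t Q) (f : G → ℂ) :
    ∑ z : (P ⊔ N).subgroupOf (stabilizer G a), f ((z : stabilizer G a) : G) =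
      ∑ u : P, ∑ n : N, f (u * n) := by
  rw [← Fintype.sum_prod_type' (f := fun (u : P) (n : N) => f (u * n))]
  symm
  refine Fintype.sum_bijective (fun p : P × N => (⟨⟨(p.1 : G) * p.2, sup_le_H hL hS
    (Subgroup.mul_mem_sup p.1.2 p.2.2)⟩, Subgroup.mem_subgroupOf.2
      (Subgroup.mul_mem_sup p.1.2 p.2.2)⟩ : (P ⊔ N).subgroupOf (stabilizer G a))) ⟨?_, ?_⟩ _ _
      (fun _ => rfl)
  · rintro ⟨u, n⟩ ⟨u', n'⟩ h
    have h1 : (u : G) * n = u' * n' := congrArg (fun z => (((z : (P ⊔ N).subgroupOf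
      (stabilizer G a)) : stabilizer G a) : G)) h
    have h2 : (u' : G)⁻¹ * u = n' * (n : G)⁻¹ := by
      rw [inv_mul_eq_iff_eq_mul, ← mul_assoc, ← h1, mul_inv_cancel_right]
    have h3 : (u' : G)⁻¹ * u ∈ P ⊓ N :=
      ⟨P.mul_mem (P.inv_mem u'.2) u.2, h2 ▸ N.mul_mem n'.2 (N.inv_mem n.2)⟩
    rw [inf_eq_bot hL, Subgroup.mem_bot] at h3
    have h4 : u = u' := Subtype.ext (inv_mul_eq_one.1 h3).symm
    rw [h3] at h2
    have h5 : n' = n := Subtype.ext (mul_inv_eq_one.1 h2.symm)
    rw [h4, h5]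
  · rintro ⟨⟨z, hz⟩, hz'⟩
    rw [Subgroup.mem_subgroupOf] at hz'
    obtain ⟨u, hu, n, hn, hun⟩ := (mem_sup_iff hL _).1 hz'
    refine ⟨(⟨u, hu⟩, ⟨n, hn⟩), ?_⟩
    apply Subtype.ext
    apply Subtype.ext
    exact hun.symm

omit [Finite G] in
theorem frattini (hS : IsRankOneSetup G Ω a t Q) :
    M1Mackey.Frattini (stabilizer G a) (P ⊔ N) := by
  intro x hx h hh
  have hxa : x • a ≠ a := fun h => hx (mem_stabilizer_iff.2 h)
  have hhxa : h • x • a ≠ a := smul_ne_of_mem hh hxa
  obtain ⟨q, hq, hqb⟩ := exists_smul_eq_of_ne hS hxa hhxa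
  have hd : (q⁻¹ * h) • x • a = x • a := by rw [mul_smul, inv_smul_eq_iff, hqb]
  refine ⟨q⁻¹ * h, mul_mem (inv_mem (hS.le hq)) hh, ?_, ?_⟩
  · rw [mem_stabilizer_iff, mul_smul, mul_smul, hd, inv_smul_smul]
  · have h1 : (q⁻¹ * h)⁻¹ * h = h⁻¹ * q * (h⁻¹)⁻¹ := by group
    rw [h1]
    exact hL.Q_le (hS.conj_mem _ (inv_mem hh) q hq)

theorem card_dsub_le (hS : IsRankOneSetup G Ω a t Q) (x : G) (hx : x ∉ stabilizer G a) :
    Nat.card (OddOrderCharacters.Clifford.dsub (stabilizer G a) x) ≤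
      Nat.card ↥(stabilizer G a ⊓ stabilizer G (t • a)) := by
  have hxa : x • a ≠ a := fun h => hx (mem_stabilizer_iff.2 h)
  obtain ⟨q, hq, hqb⟩ := exists_smul_t_smul hS hxa
  have key : ∀ d : OddOrderCharacters.Clifford.dsub (stabilizer G a) x,
      q⁻¹ * ((d : stabilizer G a) : G) * q ∈ stabilizer G a ⊓ stabilizer G (t • a) := by
    intro d
    have hd := (OddOrderCharacters.Clifford.mem_dsub (stabilizer G a) x
      (d : stabilizer G a)).1 d.2
    have hd2 : ((d : stabilizer G a) : G) • x • a = x • a := by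
      rw [mem_stabilizer_iff, mul_smul, mul_smul, inv_smul_eq_iff] at hd
      exact hd
    refine ⟨(stabilizer G a).mul_mem ((stabilizer G a).mul_mem
      ((stabilizer G a).inv_mem (hS.le hq)) (d : stabilizer G a).2) (hS.le hq), ?_⟩
    change q⁻¹ * ((d : stabilizer G a) : G) * q ∈ stabilizer G (t • a)
    rw [mem_stabilizer_iff, mul_smul, mul_smul, hqb, hd2, inv_smul_eq_iff, hqb]
  refine Nat.card_le_card_of_injective (fun d => ⟨_, key d⟩) ?_
  intro d d' h
  have h1 : q⁻¹ * ((d : stabilizer G a) : G) * q = q⁻¹ * ((d' : stabilizer G a) : G) * q :=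
    congrArg (fun z : ↥(stabilizer G a ⊓ stabilizer G (t • a)) => (z : G)) h
  have h2 : ((d : stabilizer G a) : G) = ((d' : stabilizer G a) : G) := by
    exact mul_left_cancel (mul_right_cancel h1)
  exact Subtype.ext (Subtype.ext h2)

omit hL in
theorem card_stabilizer (hS : IsRankOneSetup G Ω a t Q) :
    Nat.card (stabilizer G a) =
      Nat.card Q * Nat.card ↥(stabilizer G a ⊓ stabilizer G (t • a)) := by
  have hfin := finite_points hS
  obtain ⟨-, -, h3, -, -⟩ := S1119.result hS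
  have h4 : Nat.card Ω = Nat.card Q + 1 := card_points hS
  have := hS.two_transitive
  have hp : IsPretransitive G Ω := isPretransitive_of_is_two_pretransitive
  have h5 : Nat.card (stabilizer G a) * Nat.card Ω = Nat.card G := by
    rw [← MulAction.index_stabilizer_of_transitive G a, Subgroup.card_mul_index]
  rw [h3, h4] at h5
  exact Nat.eq_of_mul_eq_mul_right (Nat.succ_pos _) h5

omit hL in
theorem card_ineq (hS : IsRankOneSetup G Ω a t Q) :
    Nat.card ↥(stabilizer G a ⊓ stabilizer G (t • a)) * Nat.card G ≤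
      Nat.card (stabilizer G a) ^ 2 +
        Nat.card ↥(stabilizer G a ⊓ stabilizer G (t • a)) * Nat.card (stabilizer G a) := by
  obtain ⟨-, -, h3, -, -⟩ := S1119.result hS
  rw [h3, card_stabilizer hS]
  apply le_of_eq
  ring

theorem isPSolvable (hS : IsRankOneSetup G Ω a t Q) (hnil : Group.IsNilpotent Q) :
    IsPSolvable 2 (centralizer ({s} : Set G)) := by
  have : Fact (Nat.Prime 2) := ⟨Nat.prime_two⟩
  set C := centralizer ({s} : Set G) with hC
  have hQn : (Q.subgroupOf C).Normal := by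
    constructor
    intro x hx c
    rw [Subgroup.mem_subgroupOf] at hx ⊢
    exact hS.conj_mem c (hL.cent_le c.2) x hx
  have : Group.IsNilpotent (Q.subgroupOf C) :=
    (Group.isNilpotent_congr (Subgroup.subgroupOfEquivOfLe hL.Q_cent)).mpr hnil
  refine Lib.PSolvable.IsPSolvable_of_extension 2 (Q.subgroupOf C)
    (Lib.PSolvable.IsPSolvable_of_solvable 2) ?_
  -- the quotient has odd order
  have hodd : (Nat.card (C ⧸ Q.subgroupOf C)).Coprime 2 := by
    have h1 : Nat.card (C ⧸ Q.subgroupOf C) = Q.relIndex C := rfl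
    have h2 : Q.relIndex C ∣ Q.relIndex (stabilizer G a) := by
      have h3 := Subgroup.relIndex_mul_relIndex Q C (stabilizer G a) hL.Q_cent hL.cent_le
      exact ⟨_, h3.symm⟩
    have h4 : Q.relIndex (stabilizer G a) =
        Nat.card ↥(stabilizer G a ⊓ stabilizer G (t • a)) := by
      have h5 : Nat.card (stabilizer G a) = Nat.card Q * Q.relIndex (stabilizer G a) := by
        have := (Q.subgroupOf (stabilizer G a)).card_mul_index
        rw [Nat.card_congr (Subgroup.subgroupOfEquivOfLe hS.le).toEquiv] at this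
        exact this.symm
      rw [card_stabilizer hS] at h5
      exact (Nat.eq_of_mul_eq_mul_left Nat.card_pos h5).symm
    rw [h1]
    refine Nat.Coprime.coprime_dvd_left h2 ?_
    rw [h4]
    exact (Nat.coprime_two_left.2 hS.odd_card).symm
  have hf : Function.Surjective (MonoidHom.id (C ⧸ Q.subgroupOf C)) := Function.surjective_id
  refine Lib.PSolvable.IsPSolvable_of_quotient 2 (⊤ : Subgroup (C ⧸ Q.subgroupOf C))
    (Or.inr ?_) ?_
  · rw [Subgroup.card_top]
    exact hodd
  · have : Subsingleton ((C ⧸ Q.subgroupOf C) ⧸ (⊤ : Subgroup (C ⧸ Q.subgroupOf C))) :=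
      QuotientGroup.subsingleton_quotient_top
    exact Lib.PSolvable.IsPSolvable_of_solvable 2

end

end Cfsg.Agent.SuzukiRankOne.M1Setup
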