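import Mathlib
import Cfsg.Prelude.Def_LieRecognition
import Cfsg.Agent.SuzukiRankOne.M1Setup

/-!
# In the simple rank-one set-up `Q` is a `2`-group (claim M1 for Suzuki's theorem S1136)

* `core_eq_bot` : `O_{2'}(C(s)) = 1` for an involution `s ∈ G_a`, if `G` is simple.
* `isPGroup_Q` : `Q` is a `2`-group, if `G` is simple.
-/

set_option autoImplicit false

open Cfsg

namespace Cfsg.Agent.SuzukiRankOne.M1

open MulAction Cfsg.Agent.OddOrderLocal.NilParts Cfsg.Agent.LieRecognition.RankOneBasic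
open Cfsg.Agent.SuzukiRankOne.M1Setup Cfsg.Agent.Characters Cfsg.Agent.Blocks
open Subgroup (centralizer normalizer)
open scoped ComplexConjugate

/-- An irreducible character of a simple group which is constant on a nontrivial subgroup is the
principal character. -/
theorem eq_one_of_kernel {G : Type*} [Group G] [Finite G] [IsSimpleGroup G] (N : Subgroup G)
    (hN : N ≠ ⊥) {χ : G → ℂ} (hχ : IsIrrCharacter G χ) (h : ∀ n ∈ N, χ n = χ 1) :
    χ = fun _ => 1 := by
  obtain ⟨m, ρ, hρ, rfl⟩ := hχ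
  have hker : ∀ n ∈ N, n ∈ MonoidHom.ker (ρ : G →* Module.End ℂ (Fin m → ℂ)) := by
    intro n hn
    rw [MonoidHom.mem_ker]
    have h1 := h n hn
    rw [Representation.char_one] at h1
    have h2 := (Values.character_eq_finrank_iff ρ n).1 h1
    exact h2
  have htop : MonoidHom.ker (ρ : G →* Module.End ℂ (Fin m → ℂ)) = ⊤ := by
    rcases (MonoidHom.normal_ker (ρ : G →* Module.End ℂ (Fin m → ℂ))).eq_bot_or_eq_top with h1 | h1
    · exfalso
      apply hN
      rw [eq_bot_iff, ← h1]
      exact hker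
    · exact h1
  have hconst : ∀ g : G, ρ.character g = ρ.character 1 := by
    intro g
    have h1 : g ∈ MonoidHom.ker (ρ : G →* Module.End ℂ (Fin m → ℂ)) := by
      rw [htop]
      exact Subgroup.mem_top g
    rw [Representation.char_one]
    exact (Values.character_eq_finrank_iff ρ g).2 h1
  have := Fintype.ofFinite G
  have hirr : IsIrrCharacter G ρ.character := ⟨m, ρ, hρ, rfl⟩
  by_contra hne
  have h1 := Core.classInner_irr_ne hirr Core.isIrr_one hne
  have h2 : classInner ρ.character 1 = ρ.character 1 := by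
    rw [Core.classInner_def, Finset.sum_congr rfl fun g _ => by rw [hconst g]]
    simp only [Pi.one_apply, map_one, mul_one, Finset.sum_const, Finset.card_univ, nsmul_eq_mul]
    rw [← Nat.card_eq_fintype_card, inv_mul_cancel_left₀ Core.card_ne_zero_complex]
  rw [h2] at h1
  exact Core.isIrr_apply_one_ne_zero hirr h1

variable {G Ω : Type*} [Group G] [Finite G] [MulAction G Ω] {a : Ω} {t : G} {Q : Subgroup G}

theorem isPPart_eq_one {x : G} (h : IsPPart 2 1 x) : x = 1 := by
  obtain ⟨y, hxy, -, ⟨k, hk⟩, hy⟩ := h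
  have h1 : y = x⁻¹ := eq_inv_of_mul_eq_one_right hxy
  rw [h1, orderOf_inv, hk] at hy
  have hk0 : k = 0 := by
    by_contra h
    exact hy (dvd_pow_self 2 h)
  rw [hk0, pow_zero] at hk
  exact orderOf_eq_one_iff.1 hk

/-- products of two involutions -/
theorem strongly_real [FaithfulSMul G Ω] (hS : IsRankOneSetup G Ω a t Q)
    (h2 : ∃ x y : G, x ≠ 1 ∧ y ≠ 1 ∧ x ≠ y ∧ x * x = 1 ∧ y * y = 1 ∧ x * y = y * x)
    {s : G} (hs1 : s ≠ 1) (hs2 : s * s = 1) (b c : G) :
    (b * s * b⁻¹ * (c * s * c⁻¹)) * (b * s * b⁻¹ * (c * s * c⁻¹)) = 1 ∨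
      Odd (Nat.card (centralizer ({b * s * b⁻¹ * (c * s * c⁻¹)} : Set G))) := by
  by_cases h : (b * s * b⁻¹ * (c * s * c⁻¹)) * (b * s * b⁻¹ * (c * s * c⁻¹)) = 1
  · exact Or.inl h
  · have hne : ∀ b : G, b * s * b⁻¹ ≠ 1 := by
      intro b hb
      apply hs1
      have : s = b⁻¹ * (b * s * b⁻¹) * b := by group
      rw [this, hb]
      group
    have hsq : ∀ b : G, b * s * b⁻¹ * (b * s * b⁻¹) = 1 := by
      intro b
      calc b * s * b⁻¹ * (b * s * b⁻¹) = b * (s * s) * b⁻¹ := by group
        _ = 1 := by rw [hs2]; group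
    exact Or.inr (S1135.result hS h2 _ _ (hne b) (hsq b) (hne c) (hsq c) h).2

open Classical in
/-- **The core of the centralizer of an involution is trivial.** -/
theorem core_eq_bot [FaithfulSMul G Ω] [IsSimpleGroup G] (hS : IsRankOneSetup G Ω a t Q)
    (h2 : ∃ x y : G, x ≠ 1 ∧ y ≠ 1 ∧ x ≠ y ∧ x * x = 1 ∧ y * y = 1 ∧ x * y = y * x)
    {s : G} (hs : s ∈ involutionsIn (stabilizer G a : Set G)) :
    centralizerPPrimeCore 2 s = ⊥ := by
  have : Fact (Nat.Prime 2) := ⟨Nat.prime_two⟩
  have := Fintype.ofFinite G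
  have hL := exists_local hS h2 hs
  obtain ⟨-, hs1, hs2⟩ := hs
  have hnil := S1129.result hS h2
  obtain ⟨M, hM⟩ := ExistsModular.exists_isPModular Nat.prime_two
  set P := oP 2 Q with hP
  set N := centralizerPPrimeCore 2 s with hNdef
  have hso : orderOf s = 2 := orderOf_eq_prime (by rw [pow_two]; exact hs2) hs1
  have hsp : ∃ k : ℕ, orderOf s = 2 ^ k := ⟨1, by rw [hso, pow_one]⟩
  have hsolv := isPSolvable hL hS hnil
  have hconj : ∀ z : G, z ≠ 1 → z * z = 1 → IsConj s z := fun z hz1 hz2 =>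
    isConj_iff.2 ((S1121.result hS).2 s z hs1 hs2 hz1 hz2)
  have hPel : ∀ u ∈ P, ∃ k : ℕ, orderOf u = 2 ^ k := by
    intro u hu
    obtain ⟨k, hk⟩ := IsPGroup.iff_orderOf.1 hL.pgroup ⟨u, hu⟩
    exact ⟨k, by rw [← hk, Subgroup.orderOf_mk]⟩
  -- (h1)
  have h1 : ∀ b c x : G, IsPPart 2 (b * s * b⁻¹ * (c * s * c⁻¹)) x → x ≠ 1 →
      IsConj s (b * s * b⁻¹ * (c * s * c⁻¹)) := by
    intro b c x hx hx1
    rcases strongly_real hS h2 hs1 hs2 b c with h | h
    · refine hconj _ ?_ h
      intro h0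
      rw [h0] at hx
      exact hx1 (isPPart_eq_one hx)
    · exfalso
      obtain ⟨y, hxy, hc, ⟨k, hk⟩, hy⟩ := hx
      have hxC : x ∈ centralizer ({b * s * b⁻¹ * (c * s * c⁻¹)} : Set G) := by
        rw [Subgroup.mem_centralizer_singleton_iff, ← hxy, ← mul_assoc, mul_assoc x y x, ← hc.eq]
        group
      have hk0 : k ≠ 0 := by
        rintro rfl
        rw [pow_zero] at hk
        exact hx1 (orderOf_eq_one_iff.1 hk)
      have h3 : 2 ∣ orderOf x := by rw [hk]; exact dvd_pow_self 2 hk0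
      have h4 : orderOf x ∣ Nat.card (centralizer ({b * s * b⁻¹ * (c * s * c⁻¹)} : Set G)) := by
        rw [← Subgroup.orderOf_mk x hxC]
        exact orderOf_dvd_natCard _
      exact (Nat.not_even_iff_odd.2 h) (even_iff_two_dvd.2 (h3.trans h4))
  -- elements of `P N` centralize `s`
  have hcomm : ∀ u ∈ P, ∀ n ∈ N, s * (u * n) = u * n * s := by
    intro u hu n hn
    have hu' := Subgroup.mem_centralizer_singleton_iff.1 (hL.Q_cent (hL.P_le hu))
    have hn' := Subgroup.mem_centralizer_singleton_iff.1 (hL.N_le hn)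
    rw [← mul_assoc, ← hu', mul_assoc, ← hn', mul_assoc]
  have hNodd : ∀ n ∈ N, n * n = 1 → n = 1 := by
    intro n hn hnn
    have h3 : orderOf n ∣ 2 := orderOf_dvd_of_pow_eq_one (by rw [pow_two]; exact hnn)
    have h4 : orderOf n ∣ Nat.card N := by
      rw [← Subgroup.orderOf_mk n hn]
      exact orderOf_dvd_natCard _
    exact orderOf_eq_one_iff.1 (Nat.eq_one_of_dvd_coprimes hL.N_cop h4 h3)
  -- (h2)
  have h2' : ∀ u ∈ P, ∀ n ∈ N, ∀ b c : G, b * s * b⁻¹ * (c * s * c⁻¹) = u * n →
      n = 1 ∧ (u = 1 ∨ IsConj s u) := by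
    intro u hu n hn b c hbc
    have hsq : (u * n) * (u * n) = 1 := by
      rcases strongly_real hS h2 hs1 hs2 b c with h | h
      · rw [hbc] at h
        exact h
      · exfalso
        rw [hbc] at h
        have hsC : s ∈ centralizer ({u * n} : Set G) := by
          rw [Subgroup.mem_centralizer_singleton_iff]
          exact hcomm u hu n hn
        have h4 : orderOf s ∣ Nat.card (centralizer ({u * n} : Set G)) := by
          rw [← Subgroup.orderOf_mk s hsC]
          exact orderOf_dvd_natCard _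
        rw [hso] at h4
        exact (Nat.not_even_iff_odd.2 h) (even_iff_two_dvd.2 h4)
    have hun : u * n = n * u := comm_apply hL hu hn
    have h3 : (n * n)⁻¹ = u * u := by
      rw [inv_eq_iff_mul_eq_one]
      calc n * n * (u * u) = n * (n * u) * u := by group
        _ = n * (u * n) * u := by rw [hun]
        _ = (n * u) * (n * u) := by group
        _ = 1 := by rw [← hun]; exact hsq
    have h4 : u * u ∈ P ⊓ N := ⟨P.mul_mem hu hu, h3 ▸ N.inv_mem (N.mul_mem hn hn)⟩
    rw [inf_eq_bot hL, Subgroup.mem_bot] at h4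
    have h5 : n * n = 1 := by
      rw [h4] at h3
      exact inv_eq_one.1 h3
    refine ⟨hNodd n hn h5, ?_⟩
    by_cases hu1 : u = 1
    · exact Or.inl hu1
    · exact Or.inr (hconj u hu1 h4)
  -- (hN)
  have hcore : ∀ u ∈ P, u ≠ 1 → N ≤ centralizerPPrimeCore 2 u := by
    intro u hu hu1
    refine le_oP' ?_ hL.N_cop ((M1Setup.centralizer_le hS (hL.P_le hu) hu1).trans hL.norm_N)
    intro n hn
    rw [Subgroup.mem_centralizer_singleton_iff]
    exact (comm_apply hL hu hn).symm
  have hN' : ∀ χ ∈ principalBlock M G, ∀ u ∈ P, u ≠ 1 → ∀ n ∈ N,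
      (χ : G → ℂ) (u * n) = (χ : G → ℂ) u := by
    intro χ hχ u hu hu1 n hn
    exact S0942.result 2 M hM u (hPel u hu) n (hcore u hu hu1 hn) χ hχ
  -- (hE)
  have hnormal := normal_sup hL
  have hE : ∀ χ : IrrCharacter G, χ ∉ principalBlock M G → (χ : G → ℂ) s = 0 ∨
      ∑ u : P, ∑ n : N, (χ : G → ℂ) (u * n) = 0 := by
    intro χ hχ
    by_cases hsum : ∑ u : P, ∑ n : N, (χ : G → ℂ) (u * n) = 0
    · exact Or.inr hsum
    · left
      refine M1Mackey.apply_eq_zero (stabilizer G a) (P ⊔ N) (sup_le_H hL hS) (frattini hL hS)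
        (Nat.card ↥(stabilizer G a ⊓ stabilizer G (t • a))) (card_dsub_le hL hS)
        (card_ineq hS) s N ?_ ?_ (principalBlock M G) ?_ ?_ χ hχ ?_
      · intro n hn
        exact Subgroup.mul_mem_sup hL.s_mem hn
      · intro n hn x hx hmem
        apply hx
        -- `s n` fixes `x • a`
        have hfix : (s * n) • x • a = x • a := by
          rw [mem_stabilizer_iff, mul_smul, mul_smul, inv_smul_eq_iff] at hmem
          exact hmem
        have hsn : Commute s n := (Subgroup.mem_centralizer_singleton_iff.1 (hL.N_le hn)).symm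
        have hpow : (s * n) ^ Nat.card N = s := by
          rw [hsn.mul_pow]
          have h3 : n ^ Nat.card N = 1 := by
            have := pow_card_eq_one' (x := (⟨n, hn⟩ : N))
            exact congrArg Subtype.val this
          have h4 : s ^ Nat.card N = s := by
            obtain ⟨k, hk⟩ := Nat.coprime_two_right.1 hL.N_cop
            rw [hk, pow_succ, pow_mul, pow_two, hs2, one_pow, one_mul]
          rw [h3, h4, mul_one]
        have hfix' : ∀ k : ℕ, ((s * n) ^ k) • x • a = x • a := by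
          intro k
          induction k with
          | zero => rw [pow_zero, one_smul]
          | succ k ih => rw [pow_succ, mul_smul, hfix, ih]
        have h5 := hfix' (Nat.card N)
        rw [hpow] at h5
        exact mem_stabilizer_iff.2 (fix_unique hS (hL.P_le hL.s_mem) hs1 h5)
      · intro ψ hψ
        exact M1Average.sum_core_eq_zero hM s hsp hsolv ψ hψ
      · intro ψ hψ n hn
        exact S0942.result 2 M hM s hsp n hn ψ hψ
      · rw [sum_sup hL hS]
        exact hsum
  -- (hT)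
  have hT : (Nat.card N : ℂ) * ∑ᶠ χ ∈ principalBlock M G,
      (χ : G → ℂ) s * conj ((χ : G → ℂ) s) = (Nat.card (centralizer ({s} : Set G)) : ℂ) := by
    rw [M1Average.sum_sq_principalBlock hM s hsp hsolv]
    have h3 : Nat.card N = Nat.card (pPrimeCore 2 (centralizer ({s} : Set G))) :=
      Nat.card_congr ((pPrimeCore 2 (centralizer ({s} : Set G))).equivMapOfInjective
        _ (centralizer ({s} : Set G)).subtype_injective).symm.toEquiv
    rw [h3]
    exact_mod_cast (pPrimeCore 2 (centralizer ({s} : Set G))).card_mul_index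
  have key := M1Count.main hM hs2 hs1 P N hL.pgroup h1 h2' hN' hE hT
  by_contra hNbot
  -- only the principal character is nonzero at `s`
  have hB : ∀ χ ∈ principalBlock M G, (χ : G → ℂ) ≠ (fun _ => 1) → (χ : G → ℂ) s = 0 := by
    intro χ hχ hne
    rcases key χ hχ with h | h
    · exact h
    · exact absurd (eq_one_of_kernel N hNbot χ.2 h) hne
  have hTone : ∑ᶠ χ ∈ principalBlock M G, (χ : G → ℂ) s * conj ((χ : G → ℂ) s) = 1 := by
    have hMp : M.IsPrime := Local.isPrime_of_isPModular hM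
    have hone := PrincipalSection.one_mem_principalBlock (K := G) (M := M)
    have : Finite (IrrCharacter G) := Core.finite_irr
    have := Fintype.ofFinite (IrrCharacter G)
    rw [finsum_mem_eq_toFinset_sum,
      Finset.sum_eq_single (⟨fun _ => 1, Basic.isIrrCharacter_one⟩ : IrrCharacter G)]
    · simp
    · intro χ hχ hne
      rw [hB χ (by simpa using hχ) (fun h => hne (Subtype.ext h)), zero_mul]
    · intro h
      exact absurd (by simpa using hone) h
  rw [hTone, mul_one] at hT
  have hcard : Nat.card N = Nat.card (centralizer ({s} : Set G)) := by exact_mod_cast hT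
  have hsC : s ∈ centralizer ({s} : Set G) := Subgroup.mem_centralizer_singleton_iff.2 rfl
  have h4 : orderOf s ∣ Nat.card (centralizer ({s} : Set G)) := by
    rw [← Subgroup.orderOf_mk s hsC]
    exact orderOf_dvd_natCard _
  rw [hso, ← hcard] at h4
  have h5 := hL.N_cop
  have h6 := Nat.dvd_gcd h4 (dvd_refl 2)
  rw [h5] at h6
  omega

/-- **Claim M1**: if `G` is simple then `Q` is a `2`-group. -/
theorem isPGroup_Q [FaithfulSMul G Ω] [IsSimpleGroup G] (hS : IsRankOneSetup G Ω a t Q)
    (h2 : ∃ x y : G, x ≠ 1 ∧ y ≠ 1 ∧ x ≠ y ∧ x * x = 1 ∧ y * y = 1 ∧ x * y = y * x) :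
    IsPGroup 2 Q := by
  have : Fact (Nat.Prime 2) := ⟨Nat.prime_two⟩
  obtain ⟨s, hsQ, hs1, hs2⟩ := exists_involution hS
  have hs : s ∈ involutionsIn (stabilizer G a : Set G) := ⟨hS.le hsQ, hs1, hs2⟩
  have hL := exists_local hS h2 hs
  have hbot := core_eq_bot hS h2 hs
  have h1 : oP 2 Q ⊔ oP' 2 Q = Q := oP_sup_oP' (S1129.result hS h2) 2
  have h3 : oP' 2 Q = ⊥ := by
    rw [eq_bot_iff, ← hbot]
    exact hL.odd_le
  rw [h3, sup_bot_eq] at h1
  rw [← h1]
  exact isPGroup_oP 2 Q

end Cfsg.Agent.SuzukiRankOne.M1
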