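import Mathlib
import Cfsg.Prelude.Def_LieRecognition
import Cfsg.Agent.S1119
import Cfsg.Agent.LieRecognition.RankOneForm

/-!
Isomorphism lemmas: a group acting faithfully is determined by the permutations induced by a
generating set; in particular a faithful rank-one set-up generated by `Q` and `t` is determined by
`Q` and the map `f` with `t x t ∈ G_a t f(x)`.
-/

set_option autoImplicit false

namespace Cfsg.Agent.SuzukiRankOne.RankOneIso

/-- Two groups acting faithfully, with generating families inducing corresponding permutations,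
are isomorphic. -/
theorem exists_mulEquiv_of_family {G G' Ω Ω' ι : Type*} [Group G] [Group G'] [MulAction G Ω]
    [MulAction G' Ω'] [FaithfulSMul G Ω] [FaithfulSMul G' Ω'] (e : Ω ≃ Ω')
    (x : ι → G) (x' : ι → G') (hx : Subgroup.closure (Set.range x) = ⊤)
    (hx' : Subgroup.closure (Set.range x') = ⊤)
    (h : ∀ i ω, e (x i • ω) = x' i • e ω) :
    ∃ Φ : G ≃* G', (∀ i, Φ (x i) = x' i) ∧ ∀ (g : G) (ω : Ω), e (g • ω) = Φ g • e ω := by
  classical
  let f : G →* Equiv.Perm Ω' :=
    (e.permCongrHom : Equiv.Perm Ω ≃* Equiv.Perm Ω').toMonoidHom.comp (MulAction.toPermHom G Ω)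
  let f' : G' →* Equiv.Perm Ω' := MulAction.toPermHom G' Ω'
  have hf : Function.Injective f :=
    e.permCongrHom.injective.comp MulAction.toPerm_injective
  have hf' : Function.Injective f' := MulAction.toPerm_injective
  have hfa : ∀ (g : G) (ω : Ω'), f g ω = e (g • e.symm ω) := fun g ω => rfl
  have hfa' : ∀ (g : G') (ω : Ω'), f' g ω = g • ω := fun g ω => rfl
  have hxx : ∀ i, f (x i) = f' (x' i) := by
    intro i
    ext ω
    rw [hfa, hfa', h, Equiv.apply_symm_apply]
  have hr : f.range = f'.range := by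
    have h1 : f.range = Subgroup.closure (Set.range fun i => f (x i)) := by
      rw [MonoidHom.range_eq_map, ← hx, MonoidHom.map_closure, ← Set.range_comp]
      rfl
    have h2 : f'.range = Subgroup.closure (Set.range fun i => f' (x' i)) := by
      rw [MonoidHom.range_eq_map, ← hx', MonoidHom.map_closure, ← Set.range_comp]
      rfl
    rw [h1, h2]
    simp only [hxx]
  let Φ : G ≃* G' := (MonoidHom.ofInjective hf).trans
    ((MulEquiv.subgroupCongr hr).trans (MonoidHom.ofInjective hf').symm)
  have hΦ : ∀ g, f' (Φ g) = f g := by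
    intro g
    have h3 : (MonoidHom.ofInjective hf') (Φ g) =
        (MulEquiv.subgroupCongr hr) ((MonoidHom.ofInjective hf) g) := by
      exact MulEquiv.apply_symm_apply (MonoidHom.ofInjective hf') _
    have h4 := congrArg Subtype.val h3
    exact h4
  refine ⟨Φ, fun i => hf' ?_, fun g ω => ?_⟩
  · rw [hΦ, hxx]
  · have h5 := congrArg (fun p : Equiv.Perm Ω' => p (e ω)) (hΦ g)
    simp only [hfa, hfa', Equiv.symm_apply_apply] at h5
    exact h5.symm

/-- Version with generating sets: `S` generates `G`, `τ : G → G'` is any function on `S` whose image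
generates `G'`. -/
theorem exists_mulEquiv_of_set {G G' Ω Ω' : Type*} [Group G] [Group G'] [MulAction G Ω]
    [MulAction G' Ω'] [FaithfulSMul G Ω] [FaithfulSMul G' Ω'] (e : Ω ≃ Ω')
    (S : Set G) (τ : G → G') (hS : Subgroup.closure S = ⊤)
    (hS' : Subgroup.closure (τ '' S) = ⊤)
    (h : ∀ s ∈ S, ∀ ω, e (s • ω) = τ s • e ω) :
    ∃ Φ : G ≃* G', (∀ s ∈ S, Φ s = τ s) ∧ ∀ (g : G) (ω : Ω), e (g • ω) = Φ g • e ω := by
  obtain ⟨Φ, h1, h2⟩ := exists_mulEquiv_of_family (ι := S) e (fun s => (s : G))
    (fun s => τ (s : G)) (by simpa using hS) (by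
      rw [← hS']; congr 1; ext y; simp [Set.mem_image]) (fun i ω => h i i.2 ω)
  exact ⟨Φ, fun s hs => h1 ⟨s, hs⟩, h2⟩

section

variable {G Ω : Type*} [Group G] [MulAction G Ω] {a : Ω} {t : G} {Q : Subgroup G}

/-- every point is `a` or `x • t • a` for a unique `x ∈ Q`. -/
noncomputable def pointEquiv (hS : Cfsg.IsRankOneSetup G Ω a t Q) : Option Q ≃ Ω := by
  classical
  exact Equiv.ofBijective (fun o => match o with
    | none => a
    | some x => (x : G) • t • a) (by
      constructor
      · rintro (_ | x) (_ | y) hxy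
        · rfl
        · exact absurd hxy.symm (S1119.smul_ne hS y.2 (S1119.ta_ne hS))
        · exact absurd hxy (S1119.smul_ne hS x.2 (S1119.ta_ne hS))
        · simp only at hxy
          obtain ⟨z, -, hz⟩ := S1119.regular hS (t • a) ((y : G) • t • a) (S1119.ta_ne hS)
            (S1119.smul_ne hS y.2 (S1119.ta_ne hS))
          rw [hz x hxy, hz y rfl]
      · intro c
        by_cases hc : c = a
        · exact ⟨none, hc.symm⟩
        · obtain ⟨x, hx, h⟩ := S1119.exists_Q_from_b hS hc
          exact ⟨some ⟨x, hx⟩, h⟩)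

theorem pointEquiv_none (hS : Cfsg.IsRankOneSetup G Ω a t Q) : pointEquiv hS none = a := rfl

theorem pointEquiv_some (hS : Cfsg.IsRankOneSetup G Ω a t Q) (x : Q) :
    pointEquiv hS (some x) = (x : G) • t • a := rfl

/-- The relation `t x t ∈ G_a t y` in terms of points. -/
theorem smul_eq_of_form (hS : Cfsg.IsRankOneSetup G Ω a t Q) {x y h : G}
    (hh : h ∈ MulAction.stabilizer G a) (he : t * x * t = h * t * y) :
    t • x⁻¹ • t • a = y⁻¹ • t • a := by
  have h1 : (t * x * t)⁻¹ • a = (h * t * y)⁻¹ • a := by rw [he]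
  have h2 : h⁻¹ • a = a := (MulAction.stabilizer G a).inv_mem hh
  simpa [mul_smul, mul_inv_rev, LieRecognition.RankOneForm.tt_inv hS, h2] using h1

end

section

variable {G Ω G' Ω' : Type*} [Group G] [MulAction G Ω] [Group G'] [MulAction G' Ω']
  [FaithfulSMul G Ω] [FaithfulSMul G' Ω'] {a : Ω} {t : G} {Q : Subgroup G}
  {a' : Ω'} {t' : G'} {Q' : Subgroup G'}

/-- Two faithful rank-one set-ups generated by `Q`, `t` resp. `Q'`, `t'`, with an isomorphism
`φ : Q ≃* Q'` such that `t x t ∈ G_a t y` implies `t' (φ x) t' ∈ G'_{a'} t' (φ y)`, are isomorphic. -/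
theorem exists_mulEquiv (hS : Cfsg.IsRankOneSetup G Ω a t Q)
    (hS' : Cfsg.IsRankOneSetup G' Ω' a' t' Q')
    (hgen : Subgroup.closure ((Q : Set G) ∪ {t}) = ⊤)
    (hgen' : Subgroup.closure ((Q' : Set G') ∪ {t'}) = ⊤)
    (φ : Q ≃* Q')
    (hφ : ∀ x y : Q, x ≠ 1 → (∃ h ∈ MulAction.stabilizer G a, t * x * t = h * t * y) →
      ∃ h' ∈ MulAction.stabilizer G' a', t' * (φ x : G') * t' = h' * t' * (φ y : G')) :
    ∃ Φ : G ≃* G', (∀ x : Q, Φ (x : G) = (φ x : G')) ∧ Φ t = t' := by
  classical
  -- the bijection of points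
  let e : Ω ≃ Ω' := ((pointEquiv hS).symm.trans (Equiv.optionCongr φ.toEquiv)).trans (pointEquiv hS')
  have hea : e a = a' := by
    have : (pointEquiv hS).symm a = none := by
      rw [Equiv.symm_apply_eq]; rfl
    show pointEquiv hS' (Equiv.optionCongr φ.toEquiv ((pointEquiv hS).symm a)) = a'
    rw [this]; rfl
  have hex : ∀ x : Q, e ((x : G) • t • a) = (φ x : G') • t' • a' := by
    intro x
    have : (pointEquiv hS).symm ((x : G) • t • a) = some x := by
      rw [Equiv.symm_apply_eq]; rfl
    show pointEquiv hS' (Equiv.optionCongr φ.toEquiv ((pointEquiv hS).symm _)) = _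
    rw [this]; rfl
  have heta0 : e (t • a) = t' • a' := by
    have := hex 1
    simpa using this
  have hpt : ∀ ω : Ω, ω = a ∨ ∃ x : Q, ω = (x : G) • t • a := by
    intro ω
    by_cases hω : ω = a
    · exact Or.inl hω
    · obtain ⟨x, hx, h⟩ := S1119.exists_Q_from_b hS hω
      exact Or.inr ⟨⟨x, hx⟩, h.symm⟩
  -- action of `Q`
  have hQ : ∀ (x : Q) (ω : Ω), e ((x : G) • ω) = (φ x : G') • e ω := by
    intro x ω
    rcases hpt ω with rfl | ⟨y, rfl⟩
    · rw [S1119.smul_a hS x.2, hea, S1119.smul_a hS' (φ x).2]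
    · rw [← mul_smul, ← Subgroup.coe_mul, hex, hex, map_mul, Subgroup.coe_mul, mul_smul]
  -- action of `t`
  have ht : ∀ ω : Ω, e (t • ω) = t' • e ω := by
    intro ω
    rcases hpt ω with rfl | ⟨y, rfl⟩
    · rw [heta0, hea]
    · by_cases hy : y = 1
      · subst hy
        rw [hex]
        simp only [Subgroup.coe_one, one_smul, map_one]
        rw [S1119.t_smul_ta hS, S1119.t_smul_ta hS', hea]
      · -- the point `t • y • t • a` is not `a`
        have hne : t • (y : G) • t • a ≠ a := by
          intro h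
          have h1 : (y : G) • t • a = t • a := by
            have h2 := congrArg (fun ω => t • ω) h
            simpa [LieRecognition.RankOneForm.smul_smul_self hS] using h2
          have h3 := S1119.eq_one_of_smul_eq hS (S1119.ta_ne hS) y.2 h1
          exact hy (Subtype.ext h3)
        obtain ⟨z, hz, hz2⟩ := S1119.exists_Q_from_b hS hne
        -- `t y⁻¹ t = h t z⁻¹`
        have hform : ∃ h ∈ MulAction.stabilizer G a,
            t * ((y⁻¹ : Q) : G) * t = h * t * ((⟨z⁻¹, Q.inv_mem hz⟩ : Q) : G) := by
          refine ⟨t * ((y⁻¹ : Q) : G) * t * z * t, ?_, ?_⟩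
          · show (t * ((y⁻¹ : Q) : G) * t * z * t) • a = a
            simp only [mul_smul]
            rw [hz2, LieRecognition.RankOneForm.smul_smul_self hS, Subgroup.coe_inv,
              inv_smul_smul, LieRecognition.RankOneForm.smul_smul_self hS]
          · simp only
            rw [mul_assoc (t * ((y⁻¹ : Q) : G) * t * z), hS.mul_self]
            group
        obtain ⟨h', hh', he'⟩ := hφ y⁻¹ ⟨z⁻¹, Q.inv_mem hz⟩ (by simpa using hy) hform
        have h5 := smul_eq_of_form hS' hh' he'
        have h6 : e (t • (y : G) • t • a) = (φ ⟨z, hz⟩ : G') • t' • a' := by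
          rw [← hz2]
          exact hex ⟨z, hz⟩
        rw [h6, hex]
        have h7 : (φ (⟨z⁻¹, Q.inv_mem hz⟩ : Q) : G')⁻¹ = (φ ⟨z, hz⟩ : G') := by
          rw [← Subgroup.coe_inv, ← map_inv]
          congr 2
          exact Subtype.ext (inv_inv z)
        have h8 : (φ (y⁻¹ : Q) : G')⁻¹ = (φ y : G') := by
          rw [map_inv, Subgroup.coe_inv, inv_inv]
        rw [h7, h8] at h5
        exact h5.symm
  -- conclusion
  have hmain := exists_mulEquiv_of_family (ι := Option Q) e
    (fun o => o.elim t (fun x => (x : G))) (fun o => o.elim t' (fun x => (φ x : G')))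
    (by
      rw [← hgen]; congr 1; ext y
      simp only [Set.mem_range, Option.exists, Option.elim_none, Option.elim_some, Set.mem_union,
        SetLike.mem_coe, Set.mem_singleton_iff, Subtype.exists, exists_prop, exists_eq_right]
      constructor
      · rintro (h | h)
        · exact Or.inr h.symm
        · exact Or.inl h
      · rintro (h | h)
        · exact Or.inr h
        · exact Or.inl h.symm)
    (by
      rw [← hgen']; congr 1; ext y
      simp only [Set.mem_range, Option.exists, Option.elim_none, Option.elim_some, Set.mem_union,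
        SetLike.mem_coe, Set.mem_singleton_iff]
      constructor
      · rintro (h | ⟨x, h⟩)
        · exact Or.inr h.symm
        · exact Or.inl (h ▸ (φ x).2)
      · rintro (h | h)
        · refine Or.inr ⟨φ.symm ⟨y, h⟩, ?_⟩
          rw [MulEquiv.apply_symm_apply]
        · exact Or.inl h.symm)
    (by
      rintro (_ | x) ω
      · exact ht ω
      · exact hQ x ω)
  obtain ⟨Φ, h1, -⟩ := hmain
  exact ⟨Φ, fun x => h1 (some x), h1 none⟩

end

end Cfsg.Agent.SuzukiRankOne.RankOneIso
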