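import Mathlib
import Cfsg.Prelude.Def_LieRecognition
import Cfsg.Prelude.Def_Classical
import Cfsg.Agent.LieRecognition.RankOneAbstract
import Cfsg.Agent.LieRecognition.PSUThreeSylow
import Cfsg.Agent.SuzukiRankOne.RankOneIso

/-!
# `PSU₃(2^n)` as a rank-one group

The group `SUJ σ` of determinant one matrices preserving the antidiagonal Hermitian form acts on the
isotropic points; the stabiliser of the point `⟨e₁⟩` is `borel σ`, with the unitriangular subgroup
`emb σ` (isomorphic to `Heis σ`) and the antidiagonal element `wel σ`. The quotient by the centre is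
`PSU₃(2^n)`; it is a faithful rank-one set-up with `f (a, b) = (a / b, 1 / b)`.
-/

set_option autoImplicit false

namespace Cfsg.Agent.SuzukiRankOne.PSUModel

open Cfsg.Agent.LieRecognition Cfsg.Agent.LieRecognition.HermHeis
  Cfsg.Agent.LieRecognition.PSUThreeSylow Cfsg.Agent.LieRecognition.RankOneAbstract

/-! ### General facts on rank-one data -/

section General

variable {G G' : Type*} [Group G] [Group G'] {H S : Subgroup G} {w : G}

theorem mem_of_map_mem (π : G →* G') (hk : π.ker ≤ H) {g : G} (hg : π g ∈ H.map π) : g ∈ H := by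
  obtain ⟨h, hh, e⟩ := hg
  have : h⁻¹ * g ∈ H := hk (by rw [MonoidHom.mem_ker, map_mul, map_inv, e, inv_mul_cancel])
  simpa using H.mul_mem hh this

/-- Rank-one data pass to quotients by subgroups of `H`. -/
theorem data_map (D : Data H S w) (π : G →* G') (hπ : Function.Surjective π) (hk : π.ker ≤ H) :
    Data (H.map π) (S.map π) (π w) where
  w_not_mem h := D.w_not_mem (mem_of_map_mem π hk h)
  le := Subgroup.map_mono D.le
  norm := by
    rintro _ ⟨h, hh, rfl⟩ _ ⟨s, hs, rfl⟩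
    exact ⟨h * s * h⁻¹, D.norm h hh s hs, by simp⟩
  bruhat := by
    intro g' hg'
    obtain ⟨g, rfl⟩ := hπ g'
    have hg : g ∉ H := fun h => hg' ⟨g, h, rfl⟩
    obtain ⟨s, hs, h⟩ := D.bruhat g hg
    exact ⟨π s, ⟨s, hs, rfl⟩, (s * w)⁻¹ * g, h, by simp⟩
  inter := by
    rintro _ ⟨s, hs, rfl⟩ h
    have h1 : π (w⁻¹ * s * w) ∈ H.map π := by simpa using h
    rw [D.inter s hs (mem_of_map_mem π hk h1), map_one]

theorem stab_one (H : Subgroup G) : MulAction.stabilizer G (QuotientGroup.mk 1 : G ⧸ H) = H :=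
  MulAction.stabilizer_quotient H

theorem mem_stab_smul (H : Subgroup G) (w g : G) :
    g ∈ MulAction.stabilizer G (w • (QuotientGroup.mk 1 : G ⧸ H)) ↔ w⁻¹ * g * w ∈ H := by
  rw [MulAction.mem_stabilizer_iff]
  have e : g • w • (QuotientGroup.mk 1 : G ⧸ H) = w • (QuotientGroup.mk 1 : G ⧸ H) ↔
      (w⁻¹ * g * w) • (QuotientGroup.mk 1 : G ⧸ H) = QuotientGroup.mk 1 := by
    rw [mul_smul, mul_smul, inv_smul_eq_iff]
  rw [e, ← MulAction.mem_stabilizer_iff, stab_one]

/-- Rank-one data give a rank-one set-up on the cosets. -/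
theorem setup_of_data (D : Data H S w) (hw : w * w = 1) (hS : Even (Nat.card S)) {T : Subgroup G}
    (hT : ∀ g, g ∈ T ↔ g ∈ H ∧ w⁻¹ * g * w ∈ H) (hTo : Odd (Nat.card T)) :
    Cfsg.IsRankOneSetup G (G ⧸ H) (QuotientGroup.mk 1) w S where
  two_transitive := D.two_pretransitive
  mul_self := hw
  ne_one := by
    rintro rfl
    exact D.w_not_mem H.one_mem
  not_mem := by
    rw [stab_one]
    exact D.w_not_mem
  le := by
    rw [stab_one]
    exact D.le
  conj_mem := by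
    rw [stab_one]
    exact D.norm
  inf_eq_bot := by
    rw [eq_bot_iff]
    rintro s ⟨hs, hs2⟩
    have hs2' := (mem_stab_smul H w s).mp hs2
    rw [Subgroup.mem_bot]
    exact D.inter s hs hs2'
  sup_eq := by
    rw [stab_one]
    apply le_antisymm
    · exact sup_le D.le inf_le_left
    · intro h hh
      have hne : h • w • (QuotientGroup.mk 1 : G ⧸ H) ≠ QuotientGroup.mk 1 := by
        intro e
        have h1 : w • (QuotientGroup.mk 1 : G ⧸ H) = QuotientGroup.mk 1 := by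
          have h2 : h⁻¹ • (QuotientGroup.mk 1 : G ⧸ H) = QuotientGroup.mk 1 := by
            rw [← MulAction.mem_stabilizer_iff, stab_one]
            exact H.inv_mem hh
          calc w • (QuotientGroup.mk 1 : G ⧸ H)
              = h⁻¹ • (h • w • (QuotientGroup.mk 1 : G ⧸ H)) := by rw [inv_smul_smul]
            _ = QuotientGroup.mk 1 := by rw [e, h2]
        rw [← MulAction.mem_stabilizer_iff, stab_one] at h1
        exact D.w_not_mem h1
      obtain ⟨s, hs⟩ := D.exists_eq _ hne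
      have hw1 : w • (QuotientGroup.mk 1 : G ⧸ H) = QuotientGroup.mk w := by
        show (QuotientGroup.mk (w * 1) : G ⧸ H) = _
        rw [mul_one]
      rw [← hw1] at hs
      have h3 : (s : G)⁻¹ * h ∈ MulAction.stabilizer G (w • (QuotientGroup.mk 1 : G ⧸ H)) := by
        rw [MulAction.mem_stabilizer_iff, mul_smul, ← hs, inv_smul_smul]
      have h4 : h = s * ((s : G)⁻¹ * h) := by group
      rw [h4]
      exact Subgroup.mul_mem_sup s.2 ⟨H.mul_mem (H.inv_mem (D.le s.2)) hh, h3⟩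
  even_card := hS
  odd_card := by
    have : (MulAction.stabilizer G (QuotientGroup.mk 1 : G ⧸ H) ⊓
        MulAction.stabilizer G (w • (QuotientGroup.mk 1 : G ⧸ H))) = T := by
      ext g
      rw [Subgroup.mem_inf, stab_one, mem_stab_smul, hT]
    rw [this]
    exact hTo

/-- The action on the cosets is faithful when only the identity lies in all conjugates. -/
theorem faithful_of_core (H : Subgroup G) (h : ∀ g : G, (∀ k : G, k⁻¹ * g * k ∈ H) → g = 1) :
    FaithfulSMul G (G ⧸ H) := by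
  constructor
  intro g₁ g₂ hg
  have h1 : g₂⁻¹ * g₁ = 1 := by
    apply h
    intro k
    have h2 := hg (QuotientGroup.mk k)
    have h2 : (QuotientGroup.mk (g₁ * k) : G ⧸ H) = QuotientGroup.mk (g₂ * k) := h2
    rw [eq_comm, QuotientGroup.eq] at h2
    simpa [mul_assoc] using h2
  exact (inv_mul_eq_one.mp h1).symm

end General

/-! ### The group `SUJ σ` -/

section Model

open Matrix

variable {F : Type*} [Field F]

theorem inv_entries (g : SpecialLinearGroup (Fin 3) F) (h1 : g.1 1 0 = 0) (h2 : g.1 2 0 = 0) :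
    (g⁻¹).1 1 0 = 0 ∧ (g⁻¹).1 2 0 = 0 := by
  change (Matrix.adjugate g.1) 1 0 = 0 ∧ (Matrix.adjugate g.1) 2 0 = 0
  rw [Matrix.adjugate_fin_three]
  constructor <;> simp [h1, h2]

/-- The stabiliser of the isotropic point `⟨e₁⟩`. -/
def borel (σ : F →+* F) : Subgroup (SUJ σ) where
  carrier := {g | g.1.1 1 0 = 0 ∧ g.1.1 2 0 = 0}
  mul_mem' := by
    rintro g h ⟨hg1, hg2⟩ ⟨hh1, hh2⟩
    constructor
    · change (g.1.1 * h.1.1) 1 0 = 0
      rw [Matrix.mul_apply, Fin.sum_univ_three, hg1, hh1, hh2]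
      simp
    · change (g.1.1 * h.1.1) 2 0 = 0
      rw [Matrix.mul_apply, Fin.sum_univ_three, hg2, hh1, hh2]
      simp
  one_mem' := by
    constructor
    · change (1 : Matrix (Fin 3) (Fin 3) F) 1 0 = 0
      simp
    · change (1 : Matrix (Fin 3) (Fin 3) F) 2 0 = 0
      simp
  inv_mem' := by
    rintro g ⟨hg1, hg2⟩
    exact inv_entries g.1 hg1 hg2

theorem mem_borel {σ : F →+* F} {g : SUJ σ} :
    g ∈ borel σ ↔ g.1.1 1 0 = 0 ∧ g.1.1 2 0 = 0 := Iff.rfl

theorem coe_mul_SUJ {σ : F →+* F} (g h : SUJ σ) : (g * h).1.1 = g.1.1 * h.1.1 := rfl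

variable [CharP F 2] {σ : F →+* F} [hσ : Fact (∀ x, σ (σ x) = x)]

omit hσ in
theorem wel_val : (wel σ).1.1 = Jm F := rfl

omit hσ in
theorem wel_mul_wel : wel σ * wel σ = 1 := by
  apply Subtype.ext
  apply Subtype.ext
  exact Jm_mul_Jm

omit hσ in
theorem wel_inv : (wel σ)⁻¹ = wel σ := inv_eq_of_mul_eq_one_right wel_mul_wel

/-- Left multiplication by the antidiagonal matrix. -/
theorem Jm_mul_apply (M : Matrix (Fin 3) (Fin 3) F) (j : Fin 3) :
    (Jm F * M) 0 j = M 2 j ∧ (Jm F * M) 1 j = M 1 j ∧ (Jm F * M) 2 j = M 0 j := by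
  refine ⟨?_, ?_, ?_⟩ <;> simp [Jm, Matrix.mul_apply, Fin.sum_univ_three]

theorem mul_Jm_apply (M : Matrix (Fin 3) (Fin 3) F) (i : Fin 3) :
    (M * Jm F) i 0 = M i 2 ∧ (M * Jm F) i 1 = M i 1 ∧ (M * Jm F) i 2 = M i 0 := by
  refine ⟨?_, ?_, ?_⟩ <;> simp [Jm, Matrix.mul_apply, Fin.sum_univ_three]

/-- First column of `umat x * M`. -/
theorem umat_mul_apply (x : Heis σ) (M : Matrix (Fin 3) (Fin 3) F) (j : Fin 3) :
    (umat x * M) 0 j = M 0 j + x.a * M 1 j + x.b * M 2 j ∧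
      (umat x * M) 1 j = M 1 j + σ x.a * M 2 j ∧ (umat x * M) 2 j = M 2 j := by
  refine ⟨?_, ?_, ?_⟩ <;> simp [umat, Matrix.mul_apply, Fin.sum_univ_three]

theorem b_ne_zero {x : Heis σ} (hx : x ≠ 1) : x.b ≠ 0 := by
  intro h
  apply hx
  have h1 := x.h
  rw [h, map_zero, add_zero, eq_comm, mul_eq_zero, map_eq_zero, or_self] at h1
  ext
  · exact h1
  · exact h

/-- The element of `Heis σ` with a given isotropic point. -/
def pt (u v w : F) (hw : w ≠ 0) (h : u * σ w + v * σ v + w * σ u = 0) : Heis σ :=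
  ⟨σ (v / w), u / w, by
    have hw' : σ w ≠ 0 := (map_ne_zero σ).mpr hw
    rw [HermHeis.sig, map_div₀, map_div₀]
    field_simp
    linear_combination h - CharTwo.add_self_eq_zero (v * σ v)⟩

theorem data_SUJ : Data (borel σ) (emb σ).range (wel σ) where
  w_not_mem := by
    rintro ⟨-, h⟩
    rw [wel_val] at h
    simp [Jm] at h
  le := by
    rintro _ ⟨x, rfl⟩
    rw [mem_borel, emb_val]
    simp [umat]
  norm := by
    rintro h hh _ ⟨x, rfl⟩
    have hk : (h⁻¹).1.1 1 0 = 0 ∧ (h⁻¹).1.1 2 0 = 0 := (borel σ).inv_mem hh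
    have hcol : ∀ i, (h * emb σ x * h⁻¹).1.1 i 0 = h.1.1 i 0 * (h⁻¹).1.1 0 0 := by
      intro i
      rw [coe_mul_SUJ, coe_mul_SUJ, emb_val, Matrix.mul_apply, Fin.sum_univ_three, hk.1, hk.2]
      simp [umat, Matrix.mul_apply, Fin.sum_univ_three]
    have h00 : h.1.1 0 0 * (h⁻¹).1.1 0 0 = 1 := by
      have h1 : (h * h⁻¹).1.1 0 0 = 1 := by
        rw [mul_inv_cancel]
        change (1 : Matrix (Fin 3) (Fin 3) F) 0 0 = 1
        simp
      rw [coe_mul_SUJ, Matrix.mul_apply, Fin.sum_univ_three, hk.1, hk.2] at h1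
      simpa using h1
    apply mem_range_of_col
    · rw [hcol, h00]
    · rw [hcol, hh.1, zero_mul]
    · rw [hcol, hh.2, zero_mul]
  bruhat := by
    intro g hg
    have e := entry_of_mem_SUJ g.2 0 0
    simp only [Jm, Matrix.of_apply, Matrix.cons_val', Matrix.cons_val_zero] at e
    have hw : g.1.1 2 0 ≠ 0 := by
      intro h
      apply hg
      rw [h, map_zero, mul_zero, zero_add, zero_mul, add_zero, mul_eq_zero, map_eq_zero,
        or_self] at e
      exact ⟨e, h⟩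
    refine ⟨emb σ (pt (g.1.1 0 0) (g.1.1 1 0) (g.1.1 2 0) hw e), ⟨_, rfl⟩, ?_⟩
    set x := pt (g.1.1 0 0) (g.1.1 1 0) (g.1.1 2 0) hw e with hx
    have e2 : (emb σ x * wel σ)⁻¹ * g = wel σ * (emb σ x⁻¹ * g) := by
      rw [_root_.mul_inv_rev, wel_inv, map_inv, mul_assoc]
    rw [e2, mem_borel, coe_mul_SUJ, coe_mul_SUJ, wel_val, emb_val]
    obtain ⟨-, j1, j2⟩ := Jm_mul_apply (umat x⁻¹ * g.1.1) 0
    obtain ⟨u0, u1, -⟩ := umat_mul_apply x⁻¹ g.1.1 0
    rw [j1, j2, u0, u1]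
    have ha : x.a = σ (g.1.1 1 0 / g.1.1 2 0) := rfl
    have hb : x.b = g.1.1 0 0 / g.1.1 2 0 := rfl
    have hh := x.h
    constructor
    · rw [HermHeis.inv_a, ha, HermHeis.sig, div_mul_cancel₀ _ hw]
      exact CharTwo.add_self_eq_zero _
    · rw [HermHeis.inv_a, HermHeis.inv_b]
      have h1 : g.1.1 0 0 = x.b * g.1.1 2 0 := by rw [hb, div_mul_cancel₀ _ hw]
      have h2 : g.1.1 1 0 = σ x.a * g.1.1 2 0 := by
        rw [ha, HermHeis.sig, div_mul_cancel₀ _ hw]
      rw [h1, h2]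
      linear_combination g.1.1 2 0 * hh + g.1.1 2 0 * CharTwo.add_self_eq_zero (x.a * σ x.a)
  inter := by
    rintro _ ⟨x, rfl⟩ h
    rw [wel_inv, mem_borel, coe_mul_SUJ, coe_mul_SUJ, wel_val, emb_val] at h
    obtain ⟨h1, h2⟩ := h
    rw [(mul_Jm_apply _ 1).1, (Jm_mul_apply _ 2).2.1] at h1
    rw [(mul_Jm_apply _ 2).1, (Jm_mul_apply _ 2).2.2] at h2
    have h2' : x.b = 0 := by simpa [umat] using h2
    by_contra hne
    have : x ≠ 1 := by
      rintro rfl
      exact hne (map_one _)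
    exact b_ne_zero this h2'

/-- The elements fixing the two points `⟨e₁⟩` and `⟨e₃⟩`. -/
def torus (σ : F →+* F) : Subgroup (SUJ σ) :=
  borel σ ⊓ (borel σ).map (MulAut.conj (wel σ)).toMonoidHom

theorem mem_torus {g : SUJ σ} : g ∈ torus σ ↔ g ∈ borel σ ∧ (wel σ)⁻¹ * g * wel σ ∈ borel σ := by
  rw [torus, Subgroup.mem_inf, Subgroup.mem_map_equiv, MulAut.conj_symm_apply]

/-- The entries of an element of the torus. -/
theorem entries_of_mem_torus {g : SUJ σ} (hg : g ∈ torus σ) :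
    g.1.1 1 0 = 0 ∧ g.1.1 2 0 = 0 ∧ g.1.1 0 1 = 0 ∧ g.1.1 2 1 = 0 ∧ g.1.1 0 2 = 0 ∧
      g.1.1 1 2 = 0 := by
  obtain ⟨⟨h10, h20⟩, h⟩ := mem_torus.mp hg
  rw [wel_inv, mem_borel, coe_mul_SUJ, coe_mul_SUJ, wel_val] at h
  obtain ⟨h12, h02⟩ := h
  rw [(mul_Jm_apply _ 1).1, (Jm_mul_apply _ 2).2.1] at h12
  rw [(mul_Jm_apply _ 2).1, (Jm_mul_apply _ 2).2.2] at h02
  have hdet : g.1.1.det = 1 := g.1.2
  rw [Matrix.det_fin_three, h10, h20, h12, h02] at hdet
  have h00 : g.1.1 0 0 ≠ 0 := by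
    intro h0
    rw [h0] at hdet
    simp at hdet
  have h22 : g.1.1 2 2 ≠ 0 := by
    intro h0
    rw [h0] at hdet
    simp at hdet
  have e01 := entry_of_mem_SUJ g.2 0 1
  have e21 := entry_of_mem_SUJ g.2 2 1
  simp only [h10, h20, h12, h02, zero_mul, mul_zero, add_zero, zero_add] at e01 e21
  have j01 : Jm F 0 1 = 0 := by simp [Jm]
  have j21 : Jm F 2 1 = 0 := by simp [Jm]
  rw [j01, mul_eq_zero, map_eq_zero] at e01
  rw [j21, mul_eq_zero, map_eq_zero] at e21
  exact ⟨h10, h20, e21.resolve_left h22, e01.resolve_left h00, h02, h12⟩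

/-- The upper left entry is an injective homomorphism from the torus. -/
def torusHom (σ : F →+* F) [hσ : Fact (∀ x, σ (σ x) = x)] : torus σ →* F where
  toFun g := g.1.1.1 0 0
  map_one' := by
    change (1 : Matrix (Fin 3) (Fin 3) F) 0 0 = 1
    simp
  map_mul' := by
    intro g h
    have hh := entries_of_mem_torus h.2
    change (g.1.1.1 * h.1.1.1) 0 0 = _
    rw [Matrix.mul_apply, Fin.sum_univ_three, hh.1, hh.2.1]
    simp

theorem torusHom_injective : Function.Injective (torusHom σ) := by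
  rw [injective_iff_map_eq_one]
  intro g hg
  have hg' : g.1.1.1 0 0 = 1 := hg
  have hh := entries_of_mem_torus g.2
  have h1 := mem_range_of_col (g := g.1) hg' hh.1 hh.2.1
  have h2 := data_SUJ.inter g.1 h1 (mem_torus.mp g.2).2
  exact Subtype.ext h2

theorem card_torus_dvd [Finite F] : Nat.card (torus σ) ∣ Nat.card Fˣ := by
  apply Subgroup.card_dvd_of_injective (torusHom σ).toHomUnits
  intro x y hxy
  apply torusHom_injective
  have := congrArg (fun u : Fˣ => (u : F)) hxy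
  simpa using this

/-- An element of the torus that fixes all isotropic points is central. -/
theorem mem_center_of_fix {g : SUJ σ} (hx : ∃ x : Heis σ, x.a ≠ 0)
    (hg : ∀ k : SUJ σ, k⁻¹ * g * k ∈ borel σ) : g ∈ Subgroup.center (SUJ σ) := by
  have hT : g ∈ torus σ := mem_torus.mpr ⟨by simpa using hg 1, hg (wel σ)⟩
  obtain ⟨h10, h20, h01, h21, h02, h12⟩ := entries_of_mem_torus hT
  obtain ⟨x, hx⟩ := hx
  have hx1 : x ≠ 1 := by
    rintro rfl
    exact hx one_a
  have hxb := b_ne_zero hx1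
  have h := hg (emb σ x * wel σ)
  have e2 : (emb σ x * wel σ)⁻¹ * g * (emb σ x * wel σ) =
      wel σ * (emb σ x⁻¹ * (g * (emb σ x * wel σ))) := by
    rw [_root_.mul_inv_rev, wel_inv, map_inv]
    simp only [mul_assoc]
  rw [e2, mem_borel] at h
  simp only [coe_mul_SUJ, wel_val, emb_val] at h
  obtain ⟨-, j1, j2⟩ := Jm_mul_apply (umat x⁻¹ * (g.1.1 * (umat x * Jm F))) 0
  obtain ⟨u0, u1, -⟩ := umat_mul_apply x⁻¹ (g.1.1 * (umat x * Jm F)) 0
  rw [j1, j2, u0, u1] at h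
  have c : ∀ i, (g.1.1 * (umat x * Jm F)) i 0 =
      g.1.1 i 0 * x.b + g.1.1 i 1 * σ x.a + g.1.1 i 2 := by
    intro i
    rw [Matrix.mul_apply, Fin.sum_univ_three, (mul_Jm_apply _ 0).1, (mul_Jm_apply _ 1).1,
      (mul_Jm_apply _ 2).1]
    simp [umat]
  rw [c 0, c 1, c 2, h10, h20, h01, h21, h02, h12] at h
  simp only [zero_mul, zero_add, add_zero, HermHeis.inv_a, HermHeis.inv_b] at h
  obtain ⟨ha, hb⟩ := h
  have hsa : σ x.a ≠ 0 := (map_ne_zero σ).mpr hx
  have e11 : g.1.1 1 1 = g.1.1 2 2 := by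
    have : (g.1.1 1 1 + g.1.1 2 2) * σ x.a = 0 := by linear_combination ha
    exact CharTwo.add_eq_zero.mp ((mul_eq_zero.mp this).resolve_right hsa)
  have e00 : g.1.1 0 0 = g.1.1 2 2 := by
    have hh := x.h
    have : (g.1.1 0 0 + g.1.1 2 2) * x.b = 0 := by
      rw [e11] at hb
      linear_combination hb + g.1.1 2 2 * hh - g.1.1 2 2 * CharTwo.add_self_eq_zero (σ x.b)
    exact CharTwo.add_eq_zero.mp ((mul_eq_zero.mp this).resolve_right hxb)
  have hscal : g.1.1 = Matrix.scalar (Fin 3) (g.1.1 2 2) := by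
    ext i j
    fin_cases i <;> fin_cases j <;> simp [h10, h20, h01, h21, h02, h12, e00, e11]
  rw [Subgroup.mem_center_iff]
  intro k
  apply Subtype.ext
  apply Subtype.ext
  change k.1.1 * g.1.1 = g.1.1 * k.1.1
  rw [hscal]
  exact (Matrix.scalar_commute (g.1.1 2 2) (Commute.all _) k.1.1).eq.symm

/-- The centre lies in the Borel subgroup. -/
theorem center_le_borel (hx : ∃ x : Heis σ, x.a ≠ 0) : Subgroup.center (SUJ σ) ≤ borel σ := by
  intro g hg
  apply col_of_mem_normalizer hx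
  intro u hu
  have : g⁻¹ * u * g = u := by
    rw [mul_assoc, (Subgroup.mem_center_iff.mp hg u), inv_mul_cancel_left]
  rw [this]
  exact hu

/-- `SUJ σ` is generated by the unitriangular subgroup and the antidiagonal element. -/
theorem closure_SUJ (hb : ∀ b : F, ∃ x : Heis σ, x.b = b) :
    Subgroup.closure (((emb σ).range : Set (SUJ σ)) ∪ {wel σ}) = ⊤ := by
  set K := Subgroup.closure (((emb σ).range : Set (SUJ σ)) ∪ {wel σ}) with hK
  have hU : ∀ x, emb σ x ∈ K := fun x => Subgroup.subset_closure (Or.inl ⟨x, rfl⟩)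
  have hw : wel σ ∈ K := Subgroup.subset_closure (Or.inr rfl)
  have hB : borel σ ≤ K := by
    intro g hg
    have hg0 : g.1.1 0 0 ≠ 0 := by
      intro h0
      have hdet : g.1.1.det = 1 := g.1.2
      rw [Matrix.det_fin_three, hg.1, hg.2, h0] at hdet
      simp at hdet
    obtain ⟨x, hx⟩ := hb (g.1.1 0 0)
    have hx1 : x ≠ 1 := by
      rintro rfl
      rw [one_b] at hx
      exact hg0 hx.symm
    have hxb := b_ne_zero hx1
    obtain ⟨z, hz⟩ : ∃ z : Heis σ, z = pt 1 (σ x.a) x.b hxb (by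
      rw [HermHeis.sig]
      have := x.h
      rw [map_one]
      linear_combination this + CharTwo.add_self_eq_zero (x.a * σ x.a)) := ⟨_, rfl⟩
    have hza : σ z.a = σ x.a / x.b := by rw [hz]; exact HermHeis.sig _
    have hzb : z.b = 1 / x.b := by rw [hz]; rfl
    set M : SUJ σ := wel σ * (emb σ z⁻¹ * (wel σ * (emb σ x * wel σ))) with hM
    have hMK : M ∈ K := K.mul_mem hw (K.mul_mem (hU _) (K.mul_mem hw (K.mul_mem (hU _) hw)))
    -- first column of `M`
    have hM0 : M.1.1 0 0 = x.b ∧ M.1.1 1 0 = 0 ∧ M.1.1 2 0 = 0 := by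
      rw [hM]
      simp only [coe_mul_SUJ, wel_val, emb_val]
      obtain ⟨j0, j1, j2⟩ := Jm_mul_apply (umat z⁻¹ * (Jm F * (umat x * Jm F))) 0
      obtain ⟨u0, u1, u2⟩ := umat_mul_apply z⁻¹ (Jm F * (umat x * Jm F)) 0
      obtain ⟨k0, k1, k2⟩ := Jm_mul_apply (umat x * Jm F) 0
      rw [j0, j1, j2, u0, u1, u2, k0, k1, k2, (mul_Jm_apply _ 0).1, (mul_Jm_apply _ 1).1,
        (mul_Jm_apply _ 2).1]
      have m0 : umat x 0 2 = x.b := by simp [umat]
      have m1 : umat x 1 2 = σ x.a := by simp [umat]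
      have m2 : umat x 2 2 = 1 := by simp [umat]
      rw [m0, m1, m2, HermHeis.inv_a, HermHeis.inv_b]
      refine ⟨rfl, ?_, ?_⟩
      · rw [hza, div_mul_cancel₀ _ hxb]
        exact CharTwo.add_self_eq_zero _
      · have h1 : σ x.a = σ z.a * x.b := by rw [hza, div_mul_cancel₀ _ hxb]
        have h2 : 1 = z.b * x.b := by rw [hzb, div_mul_cancel₀ _ hxb]
        have h3 := z.h
        rw [h1]
        linear_combination h2 - x.b * h3 + x.b * CharTwo.add_self_eq_zero z.b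
          + x.b * CharTwo.add_self_eq_zero (σ z.b)
    have hMB : M ∈ borel σ := ⟨hM0.2.1, hM0.2.2⟩
    have hinv : (M⁻¹).1.1 1 0 = 0 ∧ (M⁻¹).1.1 2 0 = 0 := (borel σ).inv_mem hMB
    have h00 : (M⁻¹).1.1 0 0 * M.1.1 0 0 = 1 := by
      have h1 : (M⁻¹ * M).1.1 0 0 = 1 := by
        rw [inv_mul_cancel]
        change (1 : Matrix (Fin 3) (Fin 3) F) 0 0 = 1
        simp
      rw [coe_mul_SUJ, Matrix.mul_apply, Fin.sum_univ_three, hM0.2.1, hM0.2.2] at h1
      simpa using h1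
    have hmem : M⁻¹ * g ∈ (emb σ).range := by
      have hcol : ∀ i, (M⁻¹ * g).1.1 i 0 = (M⁻¹).1.1 i 0 * g.1.1 0 0 := by
        intro i
        rw [coe_mul_SUJ, Matrix.mul_apply, Fin.sum_univ_three, hg.1, hg.2]
        simp
      apply mem_range_of_col
      · rw [hcol, ← hx, ← hM0.1, h00]
      · rw [hcol, hinv.1, zero_mul]
      · rw [hcol, hinv.2, zero_mul]
    obtain ⟨y, hy⟩ := hmem
    have : g = M * emb σ y := by rw [hy]; group
    rw [this]
    exact K.mul_mem hMK (hU y)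
  rw [eq_top_iff]
  intro g _
  by_cases hg : g ∈ borel σ
  · exact hB hg
  · obtain ⟨_, ⟨s, rfl⟩, h⟩ := data_SUJ.bruhat g hg
    have : g = emb σ s * wel σ * ((emb σ s * wel σ)⁻¹ * g) := by group
    rw [this]
    exact K.mul_mem (K.mul_mem (hU s) hw) (hB h)

/-- The relation `w u(x) w ∈ B w u(f x)` with `f (a, b) = (a / b, 1 / b)`. -/
theorem wel_conj_mem {x y : Heis σ} (hx : x ≠ 1) (ha : y.a = x.a / x.b) (hb : y.b = (x.b)⁻¹) :
    wel σ * emb σ x * wel σ * (wel σ * emb σ y)⁻¹ ∈ borel σ := by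
  have hxb := b_ne_zero hx
  have hsb : σ x.b ≠ 0 := (map_ne_zero σ).mpr hxb
  have e2 : wel σ * emb σ x * wel σ * (wel σ * emb σ y)⁻¹ =
      wel σ * (emb σ x * (wel σ * (emb σ y⁻¹ * wel σ))) := by
    rw [_root_.mul_inv_rev, wel_inv, map_inv]
    simp only [mul_assoc]
  rw [e2, mem_borel]
  simp only [coe_mul_SUJ, wel_val, emb_val]
  obtain ⟨-, j1, j2⟩ := Jm_mul_apply (umat x * (Jm F * (umat y⁻¹ * Jm F))) 0
  obtain ⟨u0, u1, -⟩ := umat_mul_apply x (Jm F * (umat y⁻¹ * Jm F)) 0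
  obtain ⟨k0, k1, k2⟩ := Jm_mul_apply (umat y⁻¹ * Jm F) 0
  rw [j1, j2, u0, u1, k0, k1, k2, (mul_Jm_apply _ 0).1, (mul_Jm_apply _ 1).1,
    (mul_Jm_apply _ 2).1]
  have m0 : umat y⁻¹ 0 2 = σ y.b := by simp [umat]
  have m1 : umat y⁻¹ 1 2 = σ y.a := by simp [umat]
  have m2 : umat y⁻¹ 2 2 = 1 := by simp [umat]
  rw [m0, m1, m2, ha, hb, map_div₀, map_inv₀]
  have hh := x.h
  constructor
  · rw [div_eq_mul_inv]
    exact CharTwo.add_self_eq_zero _
  · field_simp
    linear_combination hh + CharTwo.add_self_eq_zero (x.a * σ x.a)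

end Model

/-! ### The set-up of `PSU₃(2^n)` and the recognition theorem -/

section PSU

open Matrix

variable {F : Type*} [Field F] [Finite F] [CharP F 2] {σ : F →+* F}
  [hσ : Fact (∀ x, σ (σ x) = x)] {n : ℕ}

theorem exists_b (hn : 1 ≤ n) (hs : ∀ x, σ x = x ^ (2 ^ n)) (hF : Nat.card F = (2 ^ n) ^ 2) (b : F) :
    ∃ x : Heis σ, x.b = b := by
  have hq : 1 < 2 ^ n := Nat.one_lt_two_pow (by omega)
  let _ : Fintype F := Fintype.ofFinite F
  -- the norm is surjective onto the fixed field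
  obtain ⟨a, ha⟩ : ∃ a : F, a * σ a = b + σ b := by
    have hfix : σ (b + σ b) = b + σ b := by
      rw [map_add, HermHeis.sig, add_comm]
    set c := b + σ b with hc
    by_cases hc0 : c = 0
    · exact ⟨0, by rw [hc0, zero_mul]⟩
    · -- use a generator of the unit group
      obtain ⟨g, hg⟩ := IsCyclic.exists_generator (α := Fˣ)
      have hcard : Nat.card Fˣ = (2 ^ n - 1) * (2 ^ n + 1) := by
        rw [Nat.card_units, hF, sq]
        obtain ⟨m, hm⟩ : ∃ m, 2 ^ n = m + 1 := ⟨2 ^ n - 1, by omega⟩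
        rw [hm]
        simp only [Nat.add_sub_cancel]
        ring_nf
        omega
      obtain ⟨k, hk⟩ := (Submonoid.mem_powers_iff _ _).mp
        ((mem_powers_iff_mem_zpowers).mpr (hg (Units.mk0 c hc0)))
      have hk1 : (g ^ k) ^ (2 ^ n - 1) = 1 := by
        rw [hk]
        apply Units.ext
        rw [Units.val_pow_eq_pow_val, Units.val_mk0, Units.val_one]
        have h1 : c ^ (2 ^ n - 1) * c = c := by
          rw [← pow_succ, Nat.sub_add_cancel hq.le, ← hs, hfix]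
        exact mul_right_cancel₀ hc0 (by rw [h1, one_mul])
      have hord : orderOf g = (2 ^ n - 1) * (2 ^ n + 1) := by
        rw [← hcard]
        exact orderOf_eq_card_of_forall_mem_zpowers hg
      rw [← pow_mul] at hk1
      have h2 := orderOf_dvd_of_pow_eq_one hk1
      rw [hord, mul_comm k] at h2
      obtain ⟨l, hl⟩ := Nat.dvd_of_mul_dvd_mul_left (by omega) h2
      refine ⟨((g ^ l : Fˣ) : F), ?_⟩
      rw [hs, ← pow_succ', ← Units.val_pow_eq_pow_val, ← pow_mul, mul_comm l, ← hl, hk,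
        Units.val_mk0]
  exact ⟨⟨a, b, ha.symm⟩, rfl⟩

/-- All the facts on `PSU₃(2^n)` used for its recognition. -/
theorem exists_model (hn : 1 ≤ n) (hs : ∀ x, σ x = x ^ (2 ^ n)) (hF : Nat.card F = (2 ^ n) ^ 2) :
    ∃ (H S : Subgroup (Cfsg.PSU 3 F (2 ^ n))) (w : Cfsg.PSU 3 F (2 ^ n)) (ψ : Heis σ ≃* S),
      FaithfulSMul (Cfsg.PSU 3 F (2 ^ n)) (Cfsg.PSU 3 F (2 ^ n) ⧸ H) ∧
      Cfsg.IsRankOneSetup (Cfsg.PSU 3 F (2 ^ n)) (Cfsg.PSU 3 F (2 ^ n) ⧸ H)
        (QuotientGroup.mk 1) w S ∧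
      Subgroup.closure ((S : Set (Cfsg.PSU 3 F (2 ^ n))) ∪ {w}) = ⊤ ∧
      ∀ x y : Heis σ, x ≠ 1 → y.a = x.a / x.b → y.b = (x.b)⁻¹ →
        w * (ψ x : Cfsg.PSU 3 F (2 ^ n)) * w * (w * (ψ y : Cfsg.PSU 3 F (2 ^ n)))⁻¹ ∈ H := by
  have hq : 1 < 2 ^ n := Nat.one_lt_two_pow (by omega)
  obtain ⟨x₀, hx₀⟩ := HermHeis.exists_heis_a (σ := σ) hq hs hF 1
  have hx : ∃ x : Heis σ, x.a ≠ 0 := ⟨x₀, by rw [hx₀]; exact one_ne_zero⟩
  obtain ⟨c, hc⟩ := HermHeis.exists_not_fixed (σ := σ) hq hs hF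
  obtain ⟨T, T', hTT', hT⟩ := exists_T hc
  let e : SUJ σ ≃* Cfsg.SU 3 F (2 ^ n) :=
    ((conjT hTT').subgroupMap (SUJ σ)).trans (MulEquiv.subgroupCongr (SU_eq_map hs hTT' hT))
  let π : SUJ σ →* Cfsg.PSU 3 F (2 ^ n) :=
    (QuotientGroup.mk' (Subgroup.center (Cfsg.SU 3 F (2 ^ n)))).comp e.toMonoidHom
  have hπ : Function.Surjective π := (QuotientGroup.mk'_surjective _).comp e.surjective
  have hker : ∀ g, π g = 1 ↔ g ∈ Subgroup.center (SUJ σ) := by
    intro g
    have h1 : π g = 1 ↔ e g ∈ Subgroup.center (Cfsg.SU 3 F (2 ^ n)) := by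
      rw [← QuotientGroup.eq_one_iff]
      exact Iff.rfl
    rw [h1, Subgroup.mem_center_iff, Subgroup.mem_center_iff]
    constructor
    · intro h k
      apply e.injective
      rw [map_mul, map_mul]
      exact h (e k)
    · intro h k
      obtain ⟨k, rfl⟩ := e.surjective k
      rw [← map_mul, ← map_mul, h k]
  have hkB : π.ker ≤ borel σ := by
    intro g hg
    exact center_le_borel hx ((hker g).mp hg)
  have hD := data_map data_SUJ π hπ hkB
  have hinj : ∀ x : Heis σ, π (emb σ x) = 1 → x = 1 := by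
    intro x h
    exact eq_one_of_mem_center ((hker _).mp h)
  have hinj2 : Function.Injective (π.comp (emb σ)) := by
    rw [injective_iff_map_eq_one]
    exact hinj
  have hSr : (π.comp (emb σ)).range = (emb σ).range.map π := by
    rw [MonoidHom.range_comp]
  let ψ : Heis σ ≃* ((emb σ).range.map π : Subgroup (Cfsg.PSU 3 F (2 ^ n))) :=
    (MonoidHom.ofInjective hinj2).trans (MulEquiv.subgroupCongr hSr)
  have hψ : ∀ x, (ψ x : Cfsg.PSU 3 F (2 ^ n)) = π (emb σ x) := fun _ => rfl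
  refine ⟨(borel σ).map π, (emb σ).range.map π, π (wel σ), ψ, ?_, ?_, ?_, ?_⟩
  · apply faithful_of_core
    intro g' hg'
    obtain ⟨g, rfl⟩ := hπ g'
    rw [hker]
    apply mem_center_of_fix hx
    intro k
    apply mem_of_map_mem π hkB
    simpa using hg' (π k)
  · refine setup_of_data hD ?_ ?_ (T := (torus σ).map π) ?_ ?_
    · rw [← map_mul, wel_mul_wel, map_one]
    · rw [← Nat.card_congr ψ.toEquiv, HermHeis.card_heis hq hs hF]
      exact (Nat.even_pow' (by norm_num)).mpr ((Nat.even_pow' (by omega)).mpr even_two)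
    · intro g'
      obtain ⟨g, rfl⟩ := hπ g'
      constructor
      · rintro ⟨k, hk, hkg⟩
        obtain ⟨h1, h2⟩ := mem_torus.mp hk
        rw [← hkg]
        exact ⟨⟨k, h1, rfl⟩, ⟨_, h2, by simp⟩⟩
      · rintro ⟨h1, h2⟩
        refine ⟨g, mem_torus.mpr ⟨mem_of_map_mem π hkB h1, mem_of_map_mem π hkB ?_⟩, rfl⟩
        simpa using h2
    · have h1 : Nat.card ((torus σ).map π) ∣ Nat.card (torus σ) := Subgroup.card_map_dvd _ _
      have h2 := h1.trans (card_torus_dvd (σ := σ))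
      refine Odd.of_dvd_nat ?_ h2
      rw [Nat.card_units, hF]
      refine Nat.Even.sub_odd ?_ ?_ odd_one
      · exact Nat.one_le_pow _ _ (by omega)
      · exact (Nat.even_pow' (by norm_num)).mpr ((Nat.even_pow' (by omega)).mpr even_two)
  · have h1 := closure_SUJ (σ := σ) (exists_b hn hs hF)
    have h2 := congrArg (Subgroup.map π) h1
    rw [MonoidHom.map_closure, Set.image_union, Set.image_singleton,
      ← MonoidHom.range_eq_map, MonoidHom.range_eq_top.mpr hπ] at h2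
    exact h2
  · intro x y hx1 ha hb
    rw [hψ, hψ]
    exact ⟨_, wel_conj_mem hx1 ha hb, by simp⟩

/-- **Recognition of `PSU₃(2^n)`**: a faithful rank-one set-up generated by `Q` and `t` in which `Q` is
isomorphic to `Heis σ` and `t x t ∈ G_a t y` with `y = (a / b, 1 / b)` for `x = (a, b) ≠ 1`. -/
theorem nonempty_mulEquiv_PSU {G Ω : Type*} [Group G] [MulAction G Ω] [FaithfulSMul G Ω] {a : Ω}
    {t : G} {Q : Subgroup G} (hS : Cfsg.IsRankOneSetup G Ω a t Q)
    (hgen : Subgroup.closure ((Q : Set G) ∪ {t}) = ⊤)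
    (hn : 1 ≤ n) (hs : ∀ x, σ x = x ^ (2 ^ n)) (hF : Nat.card F = (2 ^ n) ^ 2)
    (φ : Q ≃* Heis σ)
    (hf : ∀ x : Q, x ≠ 1 → ∃ h ∈ MulAction.stabilizer G a, ∃ y : Q, t * x * t = h * t * y ∧
      (φ y).a = (φ x).a / (φ x).b ∧ (φ y).b = ((φ x).b)⁻¹) :
    Nonempty (G ≃* Cfsg.PSU 3 F (2 ^ n)) := by
  obtain ⟨H, S, w, ψ, hfaith, hsetup, hclos, hrel⟩ := exists_model (σ := σ) hn hs hF
  obtain ⟨Φ, -, -⟩ := RankOneIso.exists_mulEquiv hS hsetup hgen hclos (φ.trans ψ) (by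
    rintro x y hx ⟨h, hh, he⟩
    obtain ⟨h₁, hh₁, y₁, he₁, ha, hb⟩ := hf x hx
    -- uniqueness of `y`
    have hyy : y = y₁ := by
      have e1 : t * ((y : G) * (y₁ : G)⁻¹) * t = h⁻¹ * h₁ := by
        have e2 : h * t * y = h₁ * t * y₁ := by rw [← he, he₁]
        have e3 : t * ((y : G) * (y₁ : G)⁻¹) = h⁻¹ * h₁ * t := by
          calc t * ((y : G) * (y₁ : G)⁻¹) = h⁻¹ * (h * t * y) * (y₁ : G)⁻¹ := by group
            _ = h⁻¹ * (h₁ * t * y₁) * (y₁ : G)⁻¹ := by rw [e2]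
            _ = h⁻¹ * h₁ * t := by group
        rw [e3, mul_assoc, hS.mul_self, mul_one]
      have e4 := RankOneForm.eq_one_of_conj_mem hS (x := (y : G) * (y₁ : G)⁻¹)
        (Q.mul_mem y.2 (Q.inv_mem y₁.2)) (by
          rw [e1]
          exact Subgroup.mul_mem _ (Subgroup.inv_mem _ hh) hh₁)
      exact Subtype.ext (mul_inv_eq_one.mp e4)
    subst hyy
    have hx' : φ x ≠ 1 := by
      intro h
      exact hx (φ.injective (h.trans (map_one φ).symm))
    have h3 := hrel (φ x) (φ y) hx' ha hb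
    refine ⟨w * ((φ.trans ψ) x : Cfsg.PSU 3 F (2 ^ n)) * w *
      (w * ((φ.trans ψ) y : Cfsg.PSU 3 F (2 ^ n)))⁻¹, ?_, ?_⟩
    · rw [stab_one]
      exact h3
    · group)
  exact ⟨Φ⟩

end PSU

end Cfsg.Agent.SuzukiRankOne.PSUModel
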