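import Mathlib

/-!
A translation argument in a finite group `Q` with a group `K` of automorphisms acting freely on the
non-identity elements: if to each `x` outside of a central subgroup `E` of order `q = |K| + 1` there is
attached a subset `N x` of cardinality `q² (q - 1)`, invariant under `E` and `K`, constant on
`K`-orbits, with `x⁻¹ N(x) = N(x⁻¹)`, then `x² ∈ E` for all `x`.
-/

set_option autoImplicit false
set_option linter.style.haveILetI false

namespace Cfsg.Agent.SuzukiRankOne.Translation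

/-- A free action of a finite group on a finite type: the order of the group divides the cardinality. -/
theorem card_dvd_of_free {H X : Type*} [Group H] [Finite H] [Finite X] [MulAction H X]
    (h : ∀ (g : H) (x : X), g • x = x → g = 1) : Nat.card H ∣ Nat.card X := by
  classical
  have : Fintype H := Fintype.ofFinite H
  have : Fintype X := Fintype.ofFinite X
  have hst : ∀ x : X, MulAction.stabilizer H x = ⊥ := by
    intro x
    rw [eq_bot_iff]
    intro g hg
    exact Subgroup.mem_bot.2 (h g x (MulAction.mem_stabilizer_iff.1 hg))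
  rw [Nat.card_eq_fintype_card, Nat.card_eq_fintype_card,
    MulAction.card_eq_sum_card_group_div_card_stabilizer H X]
  apply Finset.dvd_sum
  intro ω _
  have h1 : Fintype.card (MulAction.stabilizer H ω.out) = 1 := by
    rw [← Nat.card_eq_fintype_card, hst]; simp
  rw [h1, Nat.div_one]

variable {Q K : Type*} [Group Q] [Group K] [MulDistribMulAction K Q]

/-- `|K|` divides the cardinality of every `K`-invariant subset avoiding `1`, if `K` acts freely on the
non-identity elements. -/
theorem card_dvd_of_invariant [Finite Q] [Finite K] (hfpf : ∀ k : K, k ≠ 1 → ∀ x : Q, k • x = x → x = 1)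
    (S : Set Q) (hS : ∀ k : K, ∀ x ∈ S, k • x ∈ S) (h1 : (1 : Q) ∉ S) : Nat.card K ∣ Nat.card S := by
  letI : MulAction K S :=
    { smul := fun k x => ⟨k • (x : Q), hS k x x.2⟩
      one_smul := fun x => Subtype.ext (one_smul K (x : Q))
      mul_smul := fun k l x => Subtype.ext (mul_smul k l (x : Q)) }
  apply card_dvd_of_free
  intro k x hkx
  by_contra hk
  have h2 : k • (x : Q) = x := congrArg Subtype.val hkx
  have h3 := hfpf k hk x h2
  exact h1 (h3 ▸ x.2)

/-- The main translation lemma. -/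
theorem sq_mem [Finite Q] [Finite K] (E : Subgroup Q) (hcen : ∀ e ∈ E, ∀ x : Q, e * x = x * e)
    (q : ℕ) (hE : Nat.card E = q) (hK : Nat.card K = q - 1) (hq2 : 2 < q) (hqe : Even q)
    (hEK : ∀ k : K, ∀ e ∈ E, k • e ∈ E)
    (hfpf : ∀ k : K, k ≠ 1 → ∀ x : Q, k • x = x → x = 1)
    (N : Q → Set Q)
    (h1 : ∀ x, x ∉ E → ∀ k : K, N (k • x) = N x)
    (h2 : ∀ x, x ∉ E → ∀ k : K, ∀ y ∈ N x, k • y ∈ N x)
    (h3 : ∀ x, x ∉ E → ∀ e ∈ E, ∀ y ∈ N x, e * y ∈ N x)
    (h4 : ∀ x, x ∉ E → ∀ y, x * y ∈ N x ↔ y ∈ N x⁻¹)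
    (h5 : ∀ x, x ∉ E → Nat.card (N x) = q ^ 2 * (q - 1))
    (x : Q) (hx : x ∉ E) : x * x ∈ E := by
  classical
  have hx' : x⁻¹ ∉ E := fun h => hx (by simpa using E.inv_mem h)
  -- the stabiliser of `N x` under left multiplication
  let H : Subgroup Q :=
    { carrier := {g | ∀ y, g * y ∈ N x ↔ y ∈ N x}
      mul_mem' := by
        intro g g' hg hg' y
        rw [mul_assoc, hg, hg']
      one_mem' := by intro y; rw [one_mul]
      inv_mem' := by
        intro g hg y
        rw [← hg (g⁻¹ * y), mul_inv_cancel_left] }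
  have hH : ∀ g, g ∈ H ↔ ∀ y, g * y ∈ N x ↔ y ∈ N x := fun g => Iff.rfl
  have hEH : E ≤ H := by
    intro e he y
    constructor
    · intro h
      have := h3 x hx e⁻¹ (E.inv_mem he) _ h
      rwa [inv_mul_cancel_left] at this
    · exact h3 x hx e he y
  have h2' : ∀ k : K, ∀ y, k • y ∈ N x ↔ y ∈ N x := by
    intro k y
    constructor
    · intro h
      have := h2 x hx k⁻¹ _ h
      rwa [inv_smul_smul] at this
    · exact h2 x hx k y
  have hKH : ∀ k : K, ∀ g ∈ H, k • g ∈ H := by
    intro k g hg y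
    have e1 : (k • g) * y = k • (g * (k⁻¹ • y)) := by rw [smul_mul', smul_inv_smul]
    rw [e1, h2', hg, h2']
  have hxH : ∀ k : K, (k • x) * x⁻¹ ∈ H := by
    intro k y
    have e1 : N ((k • x)⁻¹) = N x⁻¹ := by rw [← smul_inv', h1 _ hx']
    have e2 : k • x ∉ E := by
      intro h
      have := hEK k⁻¹ _ h
      rw [inv_smul_smul] at this
      exact hx this
    have e3 := h4 (k • x) e2 (x⁻¹ * y)
    rw [e1, h1 x hx, ← h4 x hx, mul_inv_cancel_left] at e3
    rw [mul_assoc]
    exact e3
  -- cardinality of `H`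
  have hHdvd : Nat.card H ∣ q ^ 2 * (q - 1) := by
    rw [← h5 x hx]
    letI : MulAction H (N x) :=
      { smul := fun g y => ⟨(g : Q) * y, ((hH g).1 g.2 y).2 y.2⟩
        one_smul := fun y => Subtype.ext (one_mul (y : Q))
        mul_smul := fun g g' y => Subtype.ext (mul_assoc (g : Q) g' y) }
    apply card_dvd_of_free
    intro g y hgy
    have h6 : (g : Q) * y = y := congrArg Subtype.val hgy
    exact Subtype.ext (by simpa using h6)
  have hHmod : q - 1 ∣ Nat.card H - 1 := by
    rw [← hK]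
    have h6 := card_dvd_of_invariant hfpf ((H : Set Q) \ {1}) (by
      rintro k y ⟨hy, hy1⟩
      refine ⟨hKH k y hy, ?_⟩
      intro h
      apply hy1
      rw [Set.mem_singleton_iff] at h ⊢
      rw [← inv_smul_smul k y, h, smul_one]) (by simp)
    have h7 : Nat.card ↥((H : Set Q) \ {1}) = Nat.card H - 1 := by
      have h8 : Nat.card ↥((H : Set Q) \ {1}) = ((H : Set Q) \ {1}).ncard := rfl
      rw [h8, Set.ncard_sdiff_singleton_of_mem (Subgroup.one_mem H)]
      rfl
    rwa [h7] at h6
  have hHpos : 0 < Nat.card H := Nat.card_pos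
  have hHcop : Nat.Coprime (Nat.card H) (q - 1) := by
    rw [Nat.coprime_iff_gcd_eq_one]
    have hd1 := Nat.gcd_dvd_left (Nat.card H) (q - 1)
    have hd2 := (Nat.gcd_dvd_right (Nat.card H) (q - 1)).trans hHmod
    have hd3 := (Nat.dvd_sub hd1 hd2)
    have : Nat.card H - (Nat.card H - 1) = 1 := by omega
    rw [this] at hd3
    exact Nat.dvd_one.1 hd3
  have hHq : Nat.card H ∣ q ^ 2 := hHcop.dvd_of_dvd_mul_right hHdvd
  -- the elements `e * (k • x)` are distinct
  have hKinj : ∀ k : K, ∀ f ∈ E, k • x = f * x → k = 1 := by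
    intro k f hf hkf
    by_contra hk
    -- find `e₀` with `k • (e₀ x) = e₀ x`
    let φ : E → E := fun e => ⟨(e : Q) * (k • (e : Q))⁻¹, E.mul_mem e.2 (E.inv_mem (hEK k e e.2))⟩
    have hφ : Function.Injective φ := by
      intro e e' hee
      have h6 : (e : Q) * (k • (e : Q))⁻¹ = (e' : Q) * (k • (e' : Q))⁻¹ := congrArg Subtype.val hee
      have h7 : k • ((e' : Q)⁻¹ * e) = (e' : Q)⁻¹ * e := by
        rw [smul_mul', smul_inv']
        have c1 := hcen _ (hEK k _ e.2)
        have c2 := hcen _ (hEK k _ e'.2)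
        have : (e : Q) = (e' : Q) * (k • (e' : Q))⁻¹ * (k • (e : Q)) := by
          rw [← h6, inv_mul_cancel_right]
        calc (k • (e' : Q))⁻¹ * (k • (e : Q)) = (e' : Q)⁻¹ * ((e' : Q) * (k • (e' : Q))⁻¹ * (k • (e : Q))) := by
              group
        _ = (e' : Q)⁻¹ * e := by rw [← this]
      have h8 := hfpf k hk _ h7
      exact Subtype.ext (by rw [inv_mul_eq_one] at h8; exact h8.symm)
    have hφs : Function.Surjective φ := (Finite.injective_iff_surjective).1 hφ
    obtain ⟨e₀, he₀⟩ := hφs ⟨f, hf⟩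
    have he₀' : (e₀ : Q) * (k • (e₀ : Q))⁻¹ = f := congrArg Subtype.val he₀
    have h9 : k • ((e₀ : Q) * x) = (e₀ : Q) * x := by
      rw [smul_mul', hkf, ← he₀']
      have c3 := hcen _ e₀.2 (k • (e₀ : Q))⁻¹
      rw [c3]
      group
    have h10 := hfpf k hk _ h9
    apply hx
    have : x = (e₀ : Q)⁻¹ := eq_inv_of_mul_eq_one_right h10
    rw [this]
    exact E.inv_mem e₀.2
  have hinj : Function.Injective (fun p : E × K => (p.1 : Q) * (p.2 • x)) := by
    rintro ⟨e, k⟩ ⟨e', k'⟩ h
    simp only at h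
    have h6 : (k'⁻¹ * k) • x = (k'⁻¹ • ((e : Q)⁻¹ * e')) * x := by
      have : k • x = ((e : Q)⁻¹ * e') * (k' • x) := by
        rw [mul_assoc, ← h, inv_mul_cancel_left]
      rw [mul_smul, this, smul_mul', inv_smul_smul]
    have h7 := hKinj _ _ (hEK _ _ (E.mul_mem (E.inv_mem e.2) e'.2)) h6
    have h8 : k = k' := by rw [inv_mul_eq_one] at h7; exact h7.symm
    subst h8
    have h9 : (e : Q) = e' := mul_right_cancel h
    rw [Subtype.ext h9]
  have hcardEK : Nat.card (E × K) = q * (q - 1) := by rw [Nat.card_prod, hE, hK]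
  have hHge : q * (q - 1) ≤ Nat.card H := by
    rw [← hcardEK]
    apply Nat.card_le_card_of_injective (fun p : E × K =>
      (⟨(p.1 : Q) * ((p.2 • x) * x⁻¹), H.mul_mem (hEH p.1.2) (hxH p.2)⟩ : H))
    intro p p' h
    apply hinj
    have h6 : (p.1 : Q) * ((p.2 • x) * x⁻¹) = (p'.1 : Q) * ((p'.2 • x) * x⁻¹) := congrArg Subtype.val h
    rw [← mul_assoc, ← mul_assoc] at h6
    exact mul_right_cancel h6
  have hHcard : Nat.card H = q ^ 2 := by
    obtain ⟨m, hm⟩ := hHq
    have hm0 : m ≠ 0 := by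
      rintro rfl
      rw [mul_zero] at hm
      have : 0 < q ^ 2 := by positivity
      omega
    have hm2 : m < 2 := by
      by_contra hcon
      push Not at hcon
      have h6 : q * (q - 1) * 2 ≤ q ^ 2 := by
        rw [hm]; exact Nat.mul_le_mul hHge hcon
      obtain ⟨r, rfl⟩ : ∃ r, q = r + 1 := ⟨q - 1, by omega⟩
      simp only [Nat.add_sub_cancel] at h6
      nlinarith
    have : m = 1 := by omega
    rw [this, mul_one] at hm
    exact hm.symm
  -- `x ∈ H`
  have hxmem : x ∈ H := by
    by_contra hxn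
    have h6 := card_dvd_of_invariant hfpf ((fun g : Q => g * x) '' (H : Set Q)) (by
      rintro k _ ⟨g, hg, rfl⟩
      refine ⟨(k • g) * ((k • x) * x⁻¹), H.mul_mem (hKH k g hg) (hxH k), ?_⟩
      simp only
      rw [smul_mul']; group) (by
      rintro ⟨g, hg, hgx⟩
      have hgx : g * x = 1 := hgx
      apply hxn
      have : x = g⁻¹ := eq_inv_of_mul_eq_one_right hgx
      rw [this]; exact H.inv_mem hg)
    have h7 : Nat.card ↥((fun g : Q => g * x) '' (H : Set Q)) = q ^ 2 := by
      rw [Nat.card_image_of_injective (mul_left_injective x), ← hHcard]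
      rfl
    rw [h7, hK] at h6
    have h8 : Nat.Coprime (q - 1) (q ^ 2) := by
      apply Nat.Coprime.pow_right
      have h9 : Nat.Coprime (q - 1) (q - 1 + 1) := by
        rw [Nat.coprime_self_add_right]; exact Nat.coprime_one_right _
      have h10 : q - 1 + 1 = q := by omega
      rwa [h10] at h9
    have h9 := Nat.eq_one_of_dvd_coprimes h8 dvd_rfl h6
    omega
  -- every element of `H \ E` is of the form `e * (k • x)`
  have hHE : ∀ y ∈ H, y ∉ E → ∃ e ∈ E, ∃ k : K, y = e * (k • x) := by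
    intro y hy hyE
    by_contra hcon
    push Not at hcon
    -- the image of `E × K` misses `E` and `y`
    have hsub : Set.range (fun p : E × K => (p.1 : Q) * (p.2 • x)) ⊆ ((H : Set Q) \ (E : Set Q)) \ {y} := by
      rintro _ ⟨p, rfl⟩
      have hkx : (p.2 • x) ∈ H := hKH _ _ hxmem
      refine ⟨⟨H.mul_mem (hEH p.1.2) hkx, ?_⟩, ?_⟩
      · intro h
        have h6 : p.2 • x ∈ E := (E.mul_mem_cancel_left p.1.2).1 h
        have h7 := hEK p.2⁻¹ _ h6
        rw [inv_smul_smul] at h7
        exact hx h7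
      · intro h
        exact hcon p.1 p.1.2 p.2 h.symm
    have hle := Set.ncard_le_ncard hsub (Set.toFinite _)
    have hr : (Set.range (fun p : E × K => (p.1 : Q) * (p.2 • x))).ncard = q * (q - 1) := by
      rw [← hcardEK, ← Set.ncard_univ, ← Set.image_univ, Set.ncard_image_of_injective _ hinj]
    have hd : (((H : Set Q) \ (E : Set Q)) \ {y}).ncard = q ^ 2 - q - 1 := by
      have hmem : y ∈ (H : Set Q) \ (E : Set Q) := ⟨hy, hyE⟩
      rw [Set.ncard_sdiff_singleton_of_mem hmem, Set.ncard_sdiff (by exact hEH)]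
      have e1 : (H : Set Q).ncard = q ^ 2 := hHcard
      have e2 : (E : Set Q).ncard = q := hE
      rw [e1, e2]
    rw [hr, hd] at hle
    obtain ⟨r, rfl⟩ : ∃ r, q = r + 1 := ⟨q - 1, by omega⟩
    simp only [Nat.add_sub_cancel] at hle
    have e3 : (r + 1) ^ 2 - (r + 1) = (r + 1) * r := by
      have : (r + 1) ^ 2 = (r + 1) * r + (r + 1) := by ring
      omega
    rw [e3] at hle
    have e4 : 0 < (r + 1) * r := Nat.mul_pos (by omega) (by omega)
    omega
  -- an element of order two in `H / E`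
  have hEn : (E.subgroupOf H).Normal := by
    constructor
    rintro ⟨n, hnH⟩ hn ⟨g, hg⟩
    rw [Subgroup.mem_subgroupOf] at hn ⊢
    simp only [Subgroup.coe_mul, InvMemClass.coe_inv] at hn ⊢
    rw [← hcen n hn g, mul_inv_cancel_right]
    exact hn
  have hcardq : Nat.card (H ⧸ E.subgroupOf H) = q := by
    have h6 := Subgroup.card_eq_card_quotient_mul_card_subgroup (E.subgroupOf H)
    rw [hHcard] at h6
    have h7 : Nat.card (E.subgroupOf H) = q := by
      rw [← hE]
      exact Nat.card_congr (Subgroup.subgroupOfEquivOfLe hEH).toEquiv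
    rw [h7, pow_two] at h6
    exact (Nat.eq_of_mul_eq_mul_right (by omega) h6).symm
  have : Fact (Nat.Prime 2) := ⟨Nat.prime_two⟩
  obtain ⟨y, hy⟩ := exists_prime_orderOf_dvd_card' (G := H ⧸ E.subgroupOf H) 2 (by
    rw [hcardq]; exact even_iff_two_dvd.1 hqe)
  obtain ⟨⟨y, hyH⟩, rfl⟩ := QuotientGroup.mk_surjective y
  have hyE : y ∉ E := by
    intro h
    have : ((⟨y, hyH⟩ : H) : H ⧸ E.subgroupOf H) = 1 := by
      rw [QuotientGroup.eq_one_iff, Subgroup.mem_subgroupOf]; exact h
    rw [this, orderOf_one] at hy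
    omega
  have hyy : y * y ∈ E := by
    have h6 := pow_orderOf_eq_one (((⟨y, hyH⟩ : H) : H ⧸ E.subgroupOf H))
    rw [hy, pow_two, ← QuotientGroup.mk_mul, QuotientGroup.eq_one_iff, Subgroup.mem_subgroupOf] at h6
    exact h6
  obtain ⟨e, he, k, rfl⟩ := hHE y hyH hyE
  have h6 : e * (k • x) * (e * (k • x)) = e * e * (k • (x * x)) := by
    rw [smul_mul', mul_assoc, ← mul_assoc (k • x) e, ← hcen e he (k • x)]
    group
  rw [h6] at hyy
  have h7 : k • (x * x) ∈ E := (E.mul_mem_cancel_left (E.mul_mem he he)).1 hyy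
  have h8 := hEK k⁻¹ _ h7
  rwa [inv_smul_smul] at h8

end Cfsg.Agent.SuzukiRankOne.Translation
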