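import Mathlib
import Cfsg.Agent.OddOrderLocal.CNNil

/-!
# The central class lemma

`U` a finite group, `K` a group acting on it by automorphisms, semiregularly off `1`, and
`I : U → ι` a `K`-invariant "class function" such that, for `u, v ≠ 1` of the same class and not
in the same `K`-orbit, `u⁻¹` and `u⁻¹ v` are of the same class and not in the same `K`-orbit.
If `x ≠ 1` is central and its class is not a single `K`-orbit, then the class together with `1`
is a subgroup, and (if `|K|` is odd, `|K| > 1`) of exponent two.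
-/

namespace Cfsg.Agent.SuzukiRankOne.CentralClass

variable {U : Type*} [Group U] {K : Type*} [Group K] [MulDistribMulAction K U] {ι : Type*}

/-- The hypotheses of the central class lemma. -/
structure ClassData (K : Type*) [Group K] [MulDistribMulAction K U] (I : U → ι) : Prop where
  semireg : ∀ (k : K) (u : U), k • u = u → u ≠ 1 → k = 1
  smul_class : ∀ (k : K) (u : U), I (k • u) = I u
  tr_class : ∀ u v : U, u ≠ 1 → v ≠ 1 → I u = I v → (∀ k : K, v ≠ k • u) →
    I (u⁻¹ * v) = I u⁻¹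
  tr_orbit : ∀ u v : U, u ≠ 1 → v ≠ 1 → I u = I v → (∀ k : K, v ≠ k • u) →
    ∀ k : K, u⁻¹ * v ≠ k • u⁻¹

theorem smul_ne_one (k : K) {u : U} (hu : u ≠ 1) : k • u ≠ 1 := by
  intro h
  apply hu
  have := congrArg (fun z => k⁻¹ • z) h
  simpa using this

theorem orbit_symm {u v : U} (h : ∀ k : K, v ≠ k • u) : ∀ k : K, u ≠ k • v := by
  intro k hk
  apply h k⁻¹
  rw [hk, inv_smul_smul]

section

variable {I : U → ι} (D : ClassData K I)

include D

theorem ClassData.smul_inj {u : U} (hu : u ≠ 1) {k l : K} (h : k • u = l • u) : k = l := by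
  have h1 : (l⁻¹ * k) • u = u := by rw [mul_smul, h, inv_smul_smul]
  have h2 := D.semireg _ _ h1 hu
  exact (inv_mul_eq_one.1 h2).symm

/-- An element of `U` whose left multiplication leaves a `K`-invariant set invariant makes this set
big. -/
theorem ClassData.stab_left [Finite K] (S : Set U) [Finite S]
    (hK : ∀ k : K, ∀ s ∈ S, k • s ∈ S) {s₀ : U} (h0 : s₀ ∈ S) {g : U} (hg : g ≠ 1)
    (hgS : ∀ s ∈ S, g * s ∈ S) : Nat.card K + 1 ≤ Nat.card S := by
  have hmem : ∀ k : K, (k • g) * s₀ ∈ S := by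
    intro k
    have h1 : (k • g) * s₀ = k • (g * (k⁻¹ • s₀)) := by
      rw [smul_mul', smul_inv_smul]
    rw [h1]
    exact hK _ _ (hgS _ (hK _ _ h0))
  let F : Option K → S := fun o => match o with
    | none => ⟨s₀, h0⟩
    | some k => ⟨(k • g) * s₀, hmem k⟩
  have hF : Function.Injective F := by
    intro o o' h
    match o, o' with
    | none, none => rfl
    | none, some k =>
        have h1 : s₀ = (k • g) * s₀ := congrArg Subtype.val h
        have h2 : k • g = 1 := by
          have := mul_eq_right.1 h1.symm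
          exact this
        exact absurd h2 (smul_ne_one k hg)
    | some k, none =>
        have h1 : (k • g) * s₀ = s₀ := congrArg Subtype.val h
        have h2 : k • g = 1 := mul_eq_right.1 h1
        exact absurd h2 (smul_ne_one k hg)
    | some k, some l =>
        have h1 : (k • g) * s₀ = (l • g) * s₀ := congrArg Subtype.val h
        have h2 : k • g = l • g := mul_right_cancel h1
        rw [D.smul_inj hg h2]
  have := Nat.card_le_card_of_injective F hF
  rwa [Finite.card_option] at this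

theorem ClassData.stab_right [Finite K] (S : Set U) [Finite S]
    (hK : ∀ k : K, ∀ s ∈ S, k • s ∈ S) {s₀ : U} (h0 : s₀ ∈ S) {g : U} (hg : g ≠ 1)
    (hgS : ∀ s ∈ S, s * g ∈ S) : Nat.card K + 1 ≤ Nat.card S := by
  have hmem : ∀ k : K, s₀ * (k • g) ∈ S := by
    intro k
    have h1 : s₀ * (k • g) = k • ((k⁻¹ • s₀) * g) := by
      rw [smul_mul', smul_inv_smul]
    rw [h1]
    exact hK _ _ (hgS _ (hK _ _ h0))
  let F : Option K → S := fun o => match o with
    | none => ⟨s₀, h0⟩
    | some k => ⟨s₀ * (k • g), hmem k⟩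
  have hF : Function.Injective F := by
    intro o o' h
    match o, o' with
    | none, none => rfl
    | none, some k =>
        have h1 : s₀ = s₀ * (k • g) := congrArg Subtype.val h
        have h2 : k • g = 1 := mul_eq_left.1 h1.symm
        exact absurd h2 (smul_ne_one k hg)
    | some k, none =>
        have h1 : s₀ * (k • g) = s₀ := congrArg Subtype.val h
        have h2 : k • g = 1 := mul_eq_left.1 h1
        exact absurd h2 (smul_ne_one k hg)
    | some k, some l =>
        have h1 : s₀ * (k • g) = s₀ * (l • g) := congrArg Subtype.val h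
        have h2 : k • g = l • g := mul_left_cancel h1
        rw [D.smul_inj hg h2]
  have := Nat.card_le_card_of_injective F hF
  rwa [Finite.card_option] at this

omit [Group U] [MulDistribMulAction K U] D in
/-- No injection of `K` into itself avoids `1`. -/
theorem no_inj [Finite K] (P : K → K → Prop) (hex : ∀ k, ∃ l, l ≠ 1 ∧ P k l)
    (hinj : ∀ k k' l, P k l → P k' l → k = k') : False := by
  choose φ h1 h2 using hex
  have hφ : Function.Injective φ := by
    intro k k' h
    exact hinj k k' (φ k) (h2 k) (h ▸ h2 k')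
  obtain ⟨k, hk⟩ := Finite.surjective_of_injective hφ 1
  exact h1 k hk

omit D in
/-- The orbit `K x` as a set has at most `|K|` elements. -/
theorem card_orbit_le [Finite K] (x : U) :
    Nat.card (Set.range (fun k : K => k • x)) ≤ Nat.card K :=
  Finite.card_range_le _

variable {x : U} (hx : x ≠ 1) (hc : ∀ u : U, x * u = u * x)

include hx hc

omit D hx in
theorem smul_central (k : K) (u : U) : (k • x) * u = u * (k • x) := by
  have h := congrArg (fun z => k • z) (hc (k⁻¹ • u))
  simpa [smul_mul'] using h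

/-- Step 2a. -/
theorem ClassData.no_real [Finite K] (hab : I x⁻¹ ≠ I x) {y : U} (hy : y ≠ 1) (hya : I y = I x)
    (hya' : I y⁻¹ = I x) : False := by
  have hc' : ∀ u : U, x⁻¹ * u = u * x⁻¹ := by
    intro u
    rw [inv_mul_eq_iff_eq_mul, ← mul_assoc, hc, mul_assoc, mul_inv_cancel, mul_one]
  refine no_inj (K := K) (fun k l => k • y = x * (l • x)⁻¹) ?_ ?_
  · intro k
    set z := k • y with hz
    have hz1 : z ≠ 1 := smul_ne_one k hy
    have hza : I z = I x := by rw [hz, D.smul_class, hya]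
    have hza' : I z⁻¹ = I x := by rw [hz, ← smul_inv', D.smul_class, hya']
    have hzx : ∀ l : K, z ≠ l • x := by
      intro l hl
      apply hab
      rw [← hza', hl, ← smul_inv', D.smul_class]
    have hxz := orbit_symm hzx
    have h1 : I (z⁻¹ * x) = I z⁻¹ := D.tr_class z x hz1 hx hza hxz
    have hne : z⁻¹ * x ≠ 1 := by
      intro h
      apply hzx 1
      rw [one_smul]
      exact inv_mul_eq_one.1 h
    by_contra hcon
    push Not at hcon
    have h2 : ∀ l : K, z⁻¹ * x ≠ l • x := by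
      intro l hl
      have hl1 : l ≠ 1 := by
        rintro rfl
        rw [one_smul] at hl
        apply hz1
        have := mul_eq_right.1 hl
        exact inv_eq_one.1 this
      apply hcon l hl1
      rw [← hl, mul_inv_rev, inv_inv, ← mul_assoc, mul_inv_cancel, one_mul]
    have h3 := D.tr_class x (z⁻¹ * x) hx hne (by rw [h1, hza']) h2
    have h4 : x⁻¹ * (z⁻¹ * x) = z⁻¹ := by
      rw [hc', mul_assoc, mul_inv_cancel, mul_one]
    rw [h4, hza'] at h3
    exact hab h3.symm
  · intro k k' l h h'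
    exact D.smul_inj hy (h.trans h'.symm)

/-- Step 2b. -/
theorem ClassData.eq_smul (hab : I x⁻¹ ≠ I x) {z : U} (hz : z ≠ 1) (hza : I z = I x)
    (hza' : I z⁻¹ = I x⁻¹) : ∃ k : K, z = k • x := by
  by_contra hcon
  push Not at hcon
  have hc' : ∀ u : U, x⁻¹ * u = u * x⁻¹ := by
    intro u
    rw [inv_mul_eq_iff_eq_mul, ← mul_assoc, hc, mul_assoc, mul_inv_cancel, mul_one]
  have h1 := D.tr_class x z hx hz hza.symm hcon
  have h2 := D.tr_class z⁻¹ x⁻¹ (inv_ne_one.2 hz) (inv_ne_one.2 hx) hza' (by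
    intro k hk
    apply orbit_symm hcon k
    have := congrArg (fun w => w⁻¹) hk
    simpa [smul_inv'] using this)
  rw [inv_inv, ← hc'] at h2
  exact hab (h1.symm.trans (h2.trans hza))

/-- Step 2. -/
theorem ClassData.class_inv_central [Finite K] (hK : 1 < Nat.card K) {y : U} (hy : y ≠ 1)
    (hya : I y = I x) (hyx : ∀ k : K, y ≠ k • x) : I x⁻¹ = I x := by
  by_contra hab
  have hc1 : I y⁻¹ ≠ I x := fun h => D.no_real hx hc hab hy hya h
  have hc2 : I y⁻¹ ≠ I x⁻¹ := fun h => by
    obtain ⟨k, hk⟩ := D.eq_smul hx hc hab hy hya h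
    exact hyx k hk
  obtain ⟨k, hk⟩ : ∃ k : K, k ≠ 1 := by
    have : Nontrivial K := Finite.one_lt_card_iff_nontrivial.1 hK
    exact exists_ne 1
  set S : Set U := Set.range (fun l : K => l • x) with hS
  have : Finite S := Set.finite_range _
  have hg : (k • y) * y⁻¹ ≠ 1 := by
    intro h
    exact hk (D.semireg k y (mul_inv_eq_one.1 h) hy)
  have hcard := D.stab_left S (by
    rintro l _ ⟨m, rfl⟩
    exact ⟨l * m, by simp [mul_smul]⟩) (s₀ := x) ⟨1, by simp⟩ hg (by
    rintro _ ⟨m, rfl⟩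
    -- w := y⁻¹ (m x)
    simp only
    have hm1 : m • x ≠ 1 := smul_ne_one m hx
    have hmx : ∀ l : K, m • x ≠ l • y := by
      intro l hl
      apply orbit_symm hyx (m⁻¹ * l)
      rw [mul_smul, ← hl, inv_smul_smul]
    have h1 : I (y⁻¹ * (m • x)) = I y⁻¹ :=
      D.tr_class y (m • x) hy hm1 (by rw [D.smul_class, hya]) hmx
    have h2 : I ((m • x)⁻¹ * y) = I (m • x)⁻¹ :=
      D.tr_class (m • x) y hm1 hy (by rw [D.smul_class, hya]) (orbit_symm hmx)
    have h2' : I (m • x)⁻¹ = I x⁻¹ := by rw [← smul_inv', D.smul_class]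
    -- `w` and `(k y)⁻¹` are in the same class
    set w := y⁻¹ * (m • x) with hw
    have hw1 : w ≠ 1 := by
      intro h
      apply hmx 1
      rw [one_smul]
      exact (inv_mul_eq_one.1 h).symm
    have hwi : w⁻¹ = (m • x)⁻¹ * y := by rw [hw, mul_inv_rev, inv_inv]
    have hky : (k • y) ≠ 1 := smul_ne_one k hy
    have hkyi : I (k • y)⁻¹ = I y⁻¹ := by rw [← smul_inv', D.smul_class]
    have hwk : ∀ l : K, w ≠ l • (k • y)⁻¹ := by
      intro l hl
      apply hab
      have h3 : I w⁻¹ = I y := by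
        rw [hl, ← smul_inv', inv_inv, D.smul_class, D.smul_class]
      rw [hwi, h2, h2', hya] at h3
      exact h3
    have h4 : I ((k • y) * w) = I (k • y) := by
      have := D.tr_class (k • y)⁻¹ w (inv_ne_one.2 hky) hw1 (by rw [hkyi, h1]) hwk
      rwa [inv_inv] at this
    have h5 : I (w⁻¹ * (k • y)⁻¹) = I w⁻¹ :=
      D.tr_class w (k • y)⁻¹ hw1 (inv_ne_one.2 hky) (by rw [hkyi, h1]) (orbit_symm hwk)
    have h6 : (k • y) * w ≠ 1 := by
      intro h
      apply hwk 1
      rw [one_smul]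
      exact (inv_eq_of_mul_eq_one_right h).symm
    obtain ⟨l, hl⟩ := D.eq_smul hx hc hab h6 (by rw [h4, D.smul_class, hya]) (by
      rw [mul_inv_rev, h5, hwi, h2, h2'])
    exact ⟨l, by simp only; rw [← hl, hw, mul_assoc]⟩)
  have h7 : Nat.card S ≤ Nat.card K := card_orbit_le x
  omega

/-- Step 3. -/
theorem ClassData.class_inv [Finite K] (hxa : I x⁻¹ = I x) {y : U} (hy : y ≠ 1)
    (hya : I y = I x) : I y⁻¹ = I x := by
  by_contra hne
  have hyx : ∀ k : K, y ≠ k • x := by
    rintro k rfl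
    apply hne
    rw [← smul_inv', D.smul_class, hxa]
  refine no_inj (K := K) (fun k l => (k • x)⁻¹ = (l • y) * y⁻¹) ?_ ?_
  · intro k
    have hk1 : k • x ≠ 1 := smul_ne_one k hx
    have hkx : ∀ l : K, y ≠ l • (k • x) := by
      intro l hl
      apply hyx (l * k)
      rw [hl, mul_smul]
    have h1 : I ((k • x)⁻¹ * y) = I (k • x)⁻¹ :=
      D.tr_class (k • x) y hk1 hy (by rw [D.smul_class, hya]) hkx
    have h2 : I (k • x)⁻¹ = I x := by rw [← smul_inv', D.smul_class, hxa]
    have hz1 : (k • x)⁻¹ * y ≠ 1 := by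
      intro h
      apply hkx 1
      rw [one_smul]
      exact (inv_mul_eq_one.1 h).symm
    by_contra hcon
    push Not at hcon
    have h3 : ∀ l : K, (k • x)⁻¹ * y ≠ l • y := by
      intro l hl
      have hl1 : l ≠ 1 := by
        rintro rfl
        rw [one_smul] at hl
        exact hk1 (inv_eq_one.1 (mul_eq_right.1 hl))
      apply hcon l hl1
      rw [← hl, mul_assoc, mul_inv_cancel, mul_one]
    have h4 := D.tr_class y ((k • x)⁻¹ * y) hy hz1 (by rw [h1, h2, hya]) h3
    have h5 : y⁻¹ * ((k • x)⁻¹ * y) = (k • x)⁻¹ := by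
      rw [← mul_assoc]
      have h6 : y⁻¹ * (k • x)⁻¹ = (k • x)⁻¹ * y⁻¹ := by
        rw [← mul_inv_rev, ← mul_inv_rev, smul_central hc k y]
      rw [h6, mul_assoc, inv_mul_cancel, mul_one]
    rw [h5, h2] at h4
    exact hne h4.symm
  · intro k k' l h h'
    have h1 : k • x = k' • x := inv_injective (h.trans h'.symm)
    exact D.smul_inj hx h1

omit hc in
/-- Step 4. -/
theorem ClassData.mul_mem [Finite K] (hinv : ∀ y : U, y ≠ 1 → I y = I x → I y⁻¹ = I x)
    {y : U} (hy : y ≠ 1) (hya : I y = I x) (hyx : ∀ k : K, y ≠ k • x)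
    {u v : U} (hu : u ≠ 1) (hv : v ≠ 1) (hua : I u = I x) (hva : I v = I x) (huv : u ≠ v) :
    I (u⁻¹ * v) = I x := by
  by_cases huK : ∀ k : K, v ≠ k • u
  · rw [D.tr_class u v hu hv (by rw [hua, hva]) huK, hinv u hu hua]
  push Not at huK
  obtain ⟨k, hk⟩ := huK
  by_contra hne
  -- a third element
  obtain ⟨y₀, hy₀, hy₀a, hy₀u⟩ : ∃ y₀ : U, y₀ ≠ 1 ∧ I y₀ = I x ∧ ∀ l : K, y₀ ≠ l • u := by
    by_cases h : ∀ l : K, y ≠ l • u
    · exact ⟨y, hy, hya, h⟩
    push Not at h
    obtain ⟨l, hl⟩ := h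
    refine ⟨x, hx, rfl, ?_⟩
    intro m hm
    apply hyx (l * m⁻¹)
    rw [mul_smul, hm, inv_smul_smul, hl]
  have hg1 : u⁻¹ * v ≠ 1 := fun h => huv (inv_mul_eq_one.1 h)
  have key : ∀ y : U, y ≠ 1 → I y = I x → (∀ l : K, y ≠ l • u) →
      ∃ l : K, y * (u⁻¹ * v) = l • y := by
    intro y hy hya hyu
    have hyi : y⁻¹ ≠ 1 := inv_ne_one.2 hy
    have hui : u⁻¹ ≠ 1 := inv_ne_one.2 hu
    have hyui : ∀ l : K, y⁻¹ ≠ l • u⁻¹ := by
      intro l hl
      apply hyu l
      rw [smul_inv'] at hl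
      exact inv_injective hl
    have h1 : I (u * y⁻¹) = I u := by
      have := D.tr_class u⁻¹ y⁻¹ hui hyi (by rw [hinv u hu hua, hinv y hy hya]) hyui
      rwa [inv_inv] at this
    have h2 : ∀ l : K, u * y⁻¹ ≠ l • u := by
      have := D.tr_orbit u⁻¹ y⁻¹ hui hyi (by rw [hinv u hu hua, hinv y hy hya]) hyui
      rwa [inv_inv] at this
    set w := u * y⁻¹ with hw
    have hw1 : w ≠ 1 := by
      intro h
      apply hyu 1
      rw [one_smul]
      exact (mul_inv_eq_one.1 h).symm
    have hwv : ∀ l : K, v ≠ l • w := by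
      intro l hl
      apply h2 (l⁻¹ * k)
      rw [mul_smul, ← hk, hl, inv_smul_smul]
    have h3 : I (w⁻¹ * v) = I w⁻¹ := D.tr_class w v hw1 hv (by rw [h1, hua, hva]) hwv
    have hwi : w⁻¹ * v = y * (u⁻¹ * v) := by
      rw [hw, mul_inv_rev, inv_inv, mul_assoc]
    rw [hwi, hinv w hw1 (by rw [h1, hua])] at h3
    by_contra hcon
    push Not at hcon
    have hne1 : y * (u⁻¹ * v) ≠ 1 := by
      intro h
      rw [← hwi] at h
      apply hwv 1
      rw [one_smul]
      exact (inv_mul_eq_one.1 h).symm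
    have h4 := D.tr_class y (y * (u⁻¹ * v)) hy hne1 (by rw [hya, h3]) hcon
    rw [← mul_assoc, inv_mul_cancel, one_mul, hinv y hy hya] at h4
    exact hne h4
  set S : Set U := Set.range (fun l : K => l • y₀) with hS
  have : Finite S := Set.finite_range _
  have hcard := D.stab_right S (by
    rintro l _ ⟨m, rfl⟩
    exact ⟨l * m, by simp [mul_smul]⟩) (s₀ := y₀) ⟨1, by simp⟩ hg1 (by
    rintro _ ⟨m, rfl⟩
    simp only
    obtain ⟨l, hl⟩ := key (m • y₀) (smul_ne_one m hy₀) (by rw [D.smul_class, hy₀a]) (by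
      intro l hl
      apply hy₀u (m⁻¹ * l)
      rw [mul_smul, ← hl, inv_smul_smul])
    exact ⟨l * m, by simp only; rw [hl, mul_smul]⟩)
  have h7 : Nat.card S ≤ Nat.card K := card_orbit_le y₀
  omega

/-- **The central class lemma.** -/
theorem ClassData.exists_subgroup [Finite K] (hK : 1 < Nat.card K) {y : U} (hy : y ≠ 1)
    (hya : I y = I x) (hyx : ∀ k : K, y ≠ k • x) :
    ∃ A : Subgroup U, ∀ u : U, u ∈ A ↔ u = 1 ∨ I u = I x ∧ u ≠ 1 := by
  have hxa := D.class_inv_central hx hc hK hy hya hyx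
  have hinv : ∀ y : U, y ≠ 1 → I y = I x → I y⁻¹ = I x := fun y hy hya =>
    D.class_inv hx hc hxa hy hya
  refine ⟨{ carrier := {u | u = 1 ∨ I u = I x ∧ u ≠ 1}
            one_mem' := Or.inl rfl
            mul_mem' := ?_
            inv_mem' := ?_ }, fun u => Iff.rfl⟩
  · intro a b ha hb
    rcases ha with rfl | ⟨ha, ha1⟩
    · rw [one_mul]; exact hb
    rcases hb with rfl | ⟨hb, hb1⟩
    · rw [mul_one]; exact Or.inr ⟨ha, ha1⟩
    by_cases hab : a⁻¹ = b
    · left; rw [← hab, mul_inv_cancel]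
    right
    refine ⟨?_, fun h => hab (inv_eq_of_mul_eq_one_right h)⟩
    have := D.mul_mem hx hinv hy hya hyx (inv_ne_one.2 ha1) hb1 (hinv a ha1 ha) hb hab
    rwa [inv_inv] at this
  · rintro a (rfl | ⟨ha, ha1⟩)
    · left; exact inv_one
    · right; exact ⟨hinv a ha1 ha, inv_ne_one.2 ha1⟩

omit hc in
/-- Step 5: differences inside a `K`-orbit. -/
theorem ClassData.diff_orbit [Finite K] (hinv : ∀ y : U, y ≠ 1 → I y = I x → I y⁻¹ = I x)
    {y : U} (hy : y ≠ 1) (hya : I y = I x) (hyx : ∀ k : K, y ≠ k • x)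
    {u : U} (hu : u ≠ 1) (hua : I u = I x) (k : K) :
    u⁻¹ * (k • u) = 1 ∨ ∃ l : K, u⁻¹ * (k • u) = l • u⁻¹ := by
  by_contra hcon
  push Not at hcon
  obtain ⟨h1, h2⟩ := hcon
  have hne : u ≠ k • u := fun h => h1 (inv_mul_eq_one.2 h)
  have h3 := D.mul_mem hx hinv hy hya hyx hu (smul_ne_one k hu) hua
    (by rw [D.smul_class, hua]) hne
  have h4 := D.tr_orbit u⁻¹ (u⁻¹ * (k • u)) (inv_ne_one.2 hu) h1
    (by rw [hinv u hu hua, h3]) h2 k
  apply h4
  rw [inv_inv, mul_inv_cancel_left]

omit hc in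
/-- Step 5: `K u ∪ {1}` is a subgroup of order `|K| + 1`. -/
theorem ClassData.exists_orbit_subgroup [Finite K] [Finite U] (hK : 1 < Nat.card K)
    (hinv : ∀ y : U, y ≠ 1 → I y = I x → I y⁻¹ = I x)
    {y : U} (hy : y ≠ 1) (hya : I y = I x) (hyx : ∀ k : K, y ≠ k • x)
    {u : U} (hu : u ≠ 1) (hua : I u = I x) :
    ∃ B : Subgroup U, (∀ b : U, b ∈ B ↔ b = 1 ∨ ∃ k : K, b = k • u) ∧
      Nat.card B = Nat.card K + 1 := by
  -- the two inclusions
  have hin : ∀ w : U, (∃ k : K, w = k • u) → ∀ b : U, (b = 1 ∨ ∃ k : K, b = k • u) →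
      (w⁻¹ * b = 1 ∨ ∃ k : K, w⁻¹ * b = k • u⁻¹) := by
    rintro w ⟨k, rfl⟩ b (rfl | ⟨l, rfl⟩)
    · right; exact ⟨k, by rw [mul_one, smul_inv']⟩
    · have h1 := D.diff_orbit hx hinv hy hya hyx (smul_ne_one k hu)
        (by rw [D.smul_class, hua]) (l * k⁻¹)
      rw [mul_smul, inv_smul_smul] at h1
      rcases h1 with h1 | ⟨m, hm⟩
      · left; exact h1
      · right; exact ⟨m * k, by rw [hm, mul_smul, smul_inv', smul_inv', smul_inv']⟩
  have hout : ∀ w : U, (∃ k : K, w = k • u) → ∀ b : U, (b = 1 ∨ ∃ k : K, b = k • u⁻¹) →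
      (w * b = 1 ∨ ∃ k : K, w * b = k • u) := by
    rintro w ⟨k, rfl⟩ b (rfl | ⟨l, rfl⟩)
    · right; exact ⟨k, by rw [mul_one]⟩
    · have h1 := D.diff_orbit hx hinv hy hya hyx (smul_ne_one k (inv_ne_one.2 hu))
        (by rw [D.smul_class, hinv u hu hua]) (l * k⁻¹)
      rw [mul_smul, inv_smul_smul, smul_inv' k u, inv_inv] at h1
      rcases h1 with h1 | ⟨m, hm⟩
      · left; exact h1
      · right; exact ⟨m * k, by rw [hm, mul_smul]⟩
  obtain ⟨k₀, hk₀⟩ : ∃ k : K, k ≠ 1 := by
    have : Nontrivial K := Finite.one_lt_card_iff_nontrivial.1 hK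
    exact exists_ne 1
  -- the left stabiliser of `K u ∪ {1}`
  set P : U → Prop := fun b => b = 1 ∨ ∃ k : K, b = k • u with hP
  have hPK : ∀ (k : K) (b : U), P b → P (k • b) := by
    rintro k b (rfl | ⟨l, rfl⟩)
    · left; exact smul_one k
    · right; exact ⟨k * l, by rw [mul_smul]⟩
  set g := (k₀ • u) * u⁻¹ with hg
  have hg1 : g ≠ 1 := by
    intro h
    exact hk₀ (D.semireg k₀ u (mul_inv_eq_one.1 h) hu)
  have hgP : ∀ b, P b → P (g * b) := by
    intro b hb
    have h1 := hin u ⟨1, by simp⟩ b hb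
    have h2 := hout (k₀ • u) ⟨k₀, rfl⟩ _ h1
    rw [← mul_assoc] at h2
    exact h2
  have hkg : ∀ (k : K) (b : U), P b → P ((k • g) * b) := by
    intro k b hb
    have h1 : (k • g) * b = k • (g * (k⁻¹ • b)) := by
      rw [smul_mul' k g, smul_inv_smul]
    rw [h1]
    exact hPK _ _ (hgP _ (hPK _ _ hb))
  have hgB : ∃ l : K, g = l • u := by
    rcases hgP 1 (Or.inl rfl) with h | ⟨l, h⟩
    · rw [mul_one] at h; exact absurd h hg1
    · rw [mul_one] at h; exact ⟨l, h⟩
  obtain ⟨l, hl⟩ := hgB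
  have hmul : ∀ a b, P a → P b → P (a * b) := by
    rintro a b (rfl | ⟨k, rfl⟩) hb
    · rw [one_mul]; exact hb
    · have h1 : k • u = (k * l⁻¹) • g := by rw [hl, mul_smul, inv_smul_smul]
      rw [h1]
      exact hkg _ _ hb
  have hpow : ∀ (a : U) (n : ℕ), P a → P (a ^ n) := by
    intro a n ha
    induction n with
    | zero => left; exact pow_zero a
    | succ n ih => rw [pow_succ]; exact hmul _ _ ih ha
  let B : Subgroup U :=
    { carrier := {b | P b}
      one_mem' := Or.inl rfl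
      mul_mem' := fun {a b} ha hb => hmul a b ha hb
      inv_mem' := fun {a} ha => by
        have h1 : a⁻¹ = a ^ (orderOf a - 1) := by
          rw [inv_eq_iff_mul_eq_one, ← pow_succ', Nat.sub_add_cancel (orderOf_pos a),
            pow_orderOf_eq_one]
        change P a⁻¹
        rw [h1]
        exact hpow a _ ha }
  refine ⟨B, fun b => Iff.rfl, ?_⟩
  let F : Option K → B := fun o => match o with
    | none => 1
    | some k => ⟨k • u, Or.inr ⟨k, rfl⟩⟩
  have hF : Function.Bijective F := by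
    constructor
    · intro o o' h
      match o, o' with
      | none, none => rfl
      | none, some k =>
          have h1 : (1 : U) = k • u := congrArg Subtype.val h
          exact absurd h1.symm (smul_ne_one k hu)
      | some k, none =>
          have h1 : k • u = (1 : U) := congrArg Subtype.val h
          exact absurd h1 (smul_ne_one k hu)
      | some k, some l =>
          have h1 : k • u = l • u := congrArg Subtype.val h
          rw [D.smul_inj hu h1]
    · rintro ⟨b, hb⟩
      rcases hb with rfl | ⟨k, rfl⟩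
      · exact ⟨none, rfl⟩
      · exact ⟨some k, rfl⟩
  rw [← Nat.card_congr (Equiv.ofBijective F hF), Finite.card_option]

/-- **The central class lemma**, `|K|` odd: the class of a central element together with `1` is a
subgroup of exponent two. -/
theorem ClassData.exists_elementary [Finite K] [Finite U] (hK : 1 < Nat.card K)
    (hodd : Odd (Nat.card K)) {y : U} (hy : y ≠ 1)
    (hya : I y = I x) (hyx : ∀ k : K, y ≠ k • x) :
    ∃ A : Subgroup U, (∀ u : U, u ∈ A ↔ u = 1 ∨ I u = I x ∧ u ≠ 1) ∧ ∀ u ∈ A, u * u = 1 := by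
  have hxa := D.class_inv_central hx hc hK hy hya hyx
  have hinv : ∀ y : U, y ≠ 1 → I y = I x → I y⁻¹ = I x := fun y hy hya =>
    D.class_inv hx hc hxa hy hya
  obtain ⟨A, hA⟩ := D.exists_subgroup hx hc hK hy hya hyx
  refine ⟨A, hA, ?_⟩
  intro u hu
  rcases (hA u).1 hu with rfl | ⟨hua, hu1⟩
  · exact mul_one 1
  obtain ⟨B, hB, hcard⟩ := D.exists_orbit_subgroup hx hK hinv hy hya hyx hu1 hua
  have h2 : 2 ∣ Nat.card B := by
    rw [hcard]
    obtain ⟨m, hm⟩ := hodd
    exact ⟨m + 1, by omega⟩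
  obtain ⟨b, hb⟩ := exists_prime_orderOf_dvd_card' 2 h2
  have hb1 : (b : U) ≠ 1 := by
    intro h
    have : b = 1 := Subtype.ext h
    rw [this, orderOf_one] at hb
    omega
  have hb2 : (b : U) * b = 1 := by
    have := pow_orderOf_eq_one b
    rw [hb, pow_two] at this
    exact congrArg Subtype.val this
  rcases (hB b).1 b.2 with h | ⟨k, hk⟩
  · exact absurd h hb1
  · have h3 := congrArg (fun z => k⁻¹ • z) (hk ▸ hb2 : (k • u) * (k • u) = 1)
    simpa [smul_mul'] using h3

end

/-- A finite nilpotent group all of whose central elements have order `≤ 2` is a `2`-group. -/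
theorem isPGroup_two_of_center [Finite U] [Group.IsNilpotent U]
    (h : ∀ x : U, (∀ u : U, x * u = u * x) → x * x = 1) : IsPGroup 2 U := by
  rw [IsPGroup.iff_card]
  refine ⟨_, Nat.eq_prime_pow_of_unique_prime_dvd (Nat.card_pos (α := U)).ne' ?_⟩
  intro p hp hdvd
  obtain ⟨z, hz, hzp⟩ :=
    OddOrderLocal.CNNil.exists_center_orderOf (inferInstance : Group.IsNilpotent U) hp hdvd
  have h1 := h z (fun u => (Subgroup.mem_center_iff.1 hz u).symm)
  rw [← pow_two] at h1
  have h2 : orderOf z ∣ 2 := orderOf_dvd_of_pow_eq_one h1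
  rw [hzp] at h2
  exact (Nat.prime_dvd_prime_iff_eq hp Nat.prime_two).1 h2

end Cfsg.Agent.SuzukiRankOne.CentralClass
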