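import Mathlib
import Cfsg.Prelude.Def_LieRecognition
import Cfsg.Agent.LieRecognition.RankOneBasic
import Cfsg.Agent.S1118
import Cfsg.Agent.S1123
import Cfsg.Agent.S1124
import Cfsg.Agent.S1125
import Cfsg.Agent.S1127
import Cfsg.Agent.S1128
import Cfsg.Agent.S1130

set_option autoImplicit false
open Cfsg

/-!
Piece (I6) of the blueprint for S1136 (Suzuki's theorem).

Let `(G, Ω, a, t, Q)` be a rank-one set-up and `X ⊆ V = C_D(t)`.  Then the centraliser `C_G(X)`, made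
faithful on the fixed points `Fix(X)`, is again a rank-one set-up, with `Q_X = C_Q(X)`,
`D_X = C_D(X)`, `V_X = C_V(X)`, `K_X = C_K(X)`, `E_X = C_E(X)` and the same structure pair `(s, r)`.

* `FixPt Ω X` : the type of the fixed points of `X`;
* `CQuot Ω X` : the group `C_G(X)` modulo the kernel of its action on `FixPt Ω X`
  (same universe as `G`);
* `proj Ω X : Subgroup.centralizer X →* CQuot Ω X`.
-/

namespace Cfsg.Agent.SuzukiRankOne.CentralizerSetup

open MulAction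

section Defs

variable {G : Type*} [Group G] (Ω : Type*) [MulAction G Ω] (X : Set G)

/-- The fixed points of the subset `X` of `G`. -/
def FixPt : Type _ := {b : Ω // ∀ x ∈ X, x • b = b}

variable {Ω X}

/-- Constructor of fixed points. -/
def FixPt.mk (b : Ω) (hb : ∀ x ∈ X, x • b = b) : FixPt Ω X := ⟨b, hb⟩

theorem smul_fix (c : Subgroup.centralizer X) (b : Ω) (hb : ∀ x ∈ X, x • b = b) :
    ∀ x ∈ X, x • ((c : G) • b) = (c : G) • b := by
  intro x hx
  have := Subgroup.mem_centralizer_iff.1 c.2 x hx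
  rw [smul_smul, this, mul_smul, hb x hx]

instance : MulAction (Subgroup.centralizer X) (FixPt Ω X) where
  smul c b := ⟨(c : G) • b.1, smul_fix c b.1 b.2⟩
  one_smul b := Subtype.ext (by show ((1 : Subgroup.centralizer X) : G) • b.1 = b.1; simp)
  mul_smul c d b := Subtype.ext (by
    show ((c * d : Subgroup.centralizer X) : G) • b.1 = (c : G) • ((d : G) • b.1)
    rw [Subgroup.coe_mul, mul_smul])

@[simp] theorem coe_smul (c : Subgroup.centralizer X) (b : FixPt Ω X) :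
    (c • b).1 = (c : G) • b.1 := rfl

variable (Ω X)

/-- The group `C_G(X)` modulo the kernel of its action on the fixed points of `X`. -/
def CQuot : Type _ :=
  (Subgroup.centralizer X) ⧸ (toPermHom (Subgroup.centralizer X) (FixPt Ω X)).ker

instance : Group (CQuot Ω X) :=
  inferInstanceAs (Group ((Subgroup.centralizer X) ⧸
    (toPermHom (Subgroup.centralizer X) (FixPt Ω X)).ker))

/-- The projection of `C_G(X)` onto `CQuot Ω X`. -/
def proj : Subgroup.centralizer X →* CQuot Ω X :=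
  QuotientGroup.mk' (toPermHom (Subgroup.centralizer X) (FixPt Ω X)).ker

theorem proj_surjective : Function.Surjective (proj Ω X) := QuotientGroup.mk'_surjective _

theorem ker_proj : (proj Ω X).ker = (toPermHom (Subgroup.centralizer X) (FixPt Ω X)).ker :=
  QuotientGroup.ker_mk' _

instance : MulAction (CQuot Ω X) (FixPt Ω X) :=
  MulAction.compHom (FixPt Ω X)
    (QuotientGroup.kerLift (toPermHom (Subgroup.centralizer X) (FixPt Ω X)))

variable {Ω X}

@[simp] theorem proj_smul (c : Subgroup.centralizer X) (b : FixPt Ω X) :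
    (proj Ω X c) • b = c • b := rfl

theorem coe_proj_smul (c : Subgroup.centralizer X) (b : FixPt Ω X) :
    ((proj Ω X c) • b).1 = (c : G) • b.1 := rfl

instance : FaithfulSMul (CQuot Ω X) (FixPt Ω X) where
  eq_of_smul_eq_smul := by
    intro x y h
    obtain ⟨c, rfl⟩ := proj_surjective Ω X x
    obtain ⟨d, rfl⟩ := proj_surjective Ω X y
    have hinj := QuotientGroup.kerLift_injective
      (toPermHom (Subgroup.centralizer X) (FixPt Ω X))
    apply hinj
    ext b
    exact h b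

instance [Finite G] : Finite (CQuot Ω X) :=
  Finite.of_surjective _ (proj_surjective Ω X)

instance [Finite Ω] : Finite (FixPt Ω X) :=
  Finite.of_injective (fun b : FixPt Ω X => b.1) (fun _ _ h => Subtype.ext h)

theorem proj_eq_one_iff {c : Subgroup.centralizer X} :
    proj Ω X c = 1 ↔ ∀ b : Ω, (∀ x ∈ X, x • b = b) → (c : G) • b = b := by
  constructor
  · intro h b hb
    have h1 : (proj Ω X c) • (FixPt.mk b hb : FixPt Ω X) = FixPt.mk b hb := by rw [h, one_smul]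
    exact congrArg Subtype.val h1
  · intro h
    apply eq_of_smul_eq_smul (α := FixPt Ω X)
    intro b
    rw [one_smul]
    exact Subtype.ext (h b.1 b.2)

end Defs

section Main

variable {G Ω : Type*} [Group G] [MulAction G Ω] {a : Ω} {t : G} {Q : Subgroup G} {X : Set G}

/-- abbreviation for the hypothesis `X ⊆ V = C_D(t)` -/
def SubV (a : Ω) (t : G) (X : Set G) : Prop :=
  X ⊆ (((stabilizer G a ⊓ stabilizer G (t • a)) ⊓ Subgroup.centralizer {t} : Subgroup G) : Set G)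

theorem SubV.fix_a (hX : SubV a t X) : ∀ x ∈ X, x • a = a := fun _ hx =>
  mem_stabilizer_iff.1 (hX hx).1.1

theorem SubV.fix_ta (hX : SubV a t X) : ∀ x ∈ X, x • (t • a) = t • a := fun _ hx =>
  mem_stabilizer_iff.1 (hX hx).1.2

theorem SubV.comm (hX : SubV a t X) : ∀ x ∈ X, x * t = t * x := fun _ hx =>
  (Subgroup.mem_centralizer_singleton_iff.1 (hX hx).2)

theorem SubV.t_mem (hX : SubV a t X) : t ∈ Subgroup.centralizer X :=
  Subgroup.mem_centralizer_iff.2 fun x hx => hX.comm x hx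

/-- the point `a` as a fixed point of `X` -/
def ptA (hX : SubV a t X) : FixPt Ω X := FixPt.mk a hX.fix_a

/-- the image of `t` in `CQuot Ω X` -/
def tX (hX : SubV a t X) : CQuot Ω X := proj Ω X ⟨t, hX.t_mem⟩

/-- the image of `C_Q(X)` in `CQuot Ω X` -/
def QX (Ω : Type*) [MulAction G Ω] (X : Set G) (Q : Subgroup G) : Subgroup (CQuot Ω X) :=
  (Q.subgroupOf (Subgroup.centralizer X)).map (proj Ω X)

/-- The structure pair `(s, r)` centralises `V`. -/
theorem structure_pair_mem [Finite G] (hS : Cfsg.IsRankOneSetup G Ω a t Q) (hX : SubV a t X)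
    {s r : G} (hs : s ∈ Cfsg.involutionsIn (stabilizer G a : Set G)) (hr : r ∈ Q)
    (hsr : t * s * t = r⁻¹ * t * r) :
    s ∈ Subgroup.centralizer X ∧ r ∈ Subgroup.centralizer X := by
  have key : ∀ x ∈ X, x * s * x⁻¹ = s ∧ x * r * x⁻¹ = r := by
    intro x hx
    have hxa : x ∈ stabilizer G a := (hX hx).1.1
    obtain ⟨p, hp, hpu⟩ := Cfsg.Agent.S1123.result hS
    have h1 : (s, r) = p := hpu _ ⟨hs, hr, hsr⟩
    have hxt := hX.comm x hx
    have hxt' : x⁻¹ * t = t * x⁻¹ := by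
      rw [inv_mul_eq_iff_eq_mul, ← mul_assoc, hxt, mul_assoc, mul_inv_cancel, mul_one]
    have h2 : (x * s * x⁻¹, x * r * x⁻¹) = p := by
      apply hpu
      refine ⟨⟨?_, ?_, ?_⟩, hS.conj_mem x hxa r hr, ?_⟩
      · exact (stabilizer G a).mul_mem ((stabilizer G a).mul_mem hxa hs.1)
          ((stabilizer G a).inv_mem hxa)
      · intro h
        apply hs.2.1
        have : s = x⁻¹ * (x * s * x⁻¹) * x := by group
        rw [this]
        change x * s * x⁻¹ = 1 at h
        rw [h]; group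
      · show x * s * x⁻¹ * (x * s * x⁻¹) = 1
        have : x * s * x⁻¹ * (x * s * x⁻¹) = x * (s * s) * x⁻¹ := by group
        rw [this, hs.2.2]; group
      · show t * (x * s * x⁻¹) * t = (x * r * x⁻¹)⁻¹ * t * (x * r * x⁻¹)
        calc t * (x * s * x⁻¹) * t = (t * x) * s * (x⁻¹ * t) := by group
        _ = (x * t) * s * (t * x⁻¹) := by rw [hxt, hxt']
        _ = x * (t * s * t) * x⁻¹ := by group
        _ = x * (r⁻¹ * t * r) * x⁻¹ := by rw [hsr]
        _ = x * r⁻¹ * (x⁻¹ * x) * t * (x⁻¹ * x) * r * x⁻¹ := by group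
        _ = (x * r * x⁻¹)⁻¹ * (x * t * x⁻¹) * (x * r * x⁻¹) := by group
        _ = (x * r * x⁻¹)⁻¹ * t * (x * r * x⁻¹) := by
            rw [hxt, mul_assoc t x x⁻¹, mul_inv_cancel, mul_one]
    rw [← h1] at h2
    exact ⟨congrArg Prod.fst h2, congrArg Prod.snd h2⟩
  refine ⟨Subgroup.mem_centralizer_iff.2 fun x hx => ?_,
    Subgroup.mem_centralizer_iff.2 fun x hx => ?_⟩
  · exact mul_inv_eq_iff_eq_mul.1 (key x hx).1
  · exact mul_inv_eq_iff_eq_mul.1 (key x hx).2

theorem exists_three [Finite G] (hS : Cfsg.IsRankOneSetup G Ω a t Q) (hX : SubV a t X) :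
    ∃ b c d : Ω, b ≠ c ∧ b ≠ d ∧ c ≠ d ∧ ∀ x ∈ X, x • b = b ∧ x • c = c ∧ x • d = d := by
  obtain ⟨⟨s, r⟩, ⟨hs, hr, hsr⟩, -⟩ := Cfsg.Agent.S1123.result hS
  have hsX := (structure_pair_mem hS hX hs hr hsr).1
  have hta := LieRecognition.RankOneBasic.t_smul_ne hS
  have hsQ := LieRecognition.RankOneBasic.mem_of_mul_self hS hs.1 hs.2.2
  refine ⟨a, t • a, s • (t • a), hta.symm, ?_, ?_, ?_⟩
  · intro h
    exact LieRecognition.RankOneBasic.smul_ne_of_mem hs.1 hta h.symm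
  · intro h
    exact hs.2.1 (LieRecognition.RankOneBasic.eq_one_of_smul_t_smul hS hsQ h.symm)
  · intro x hx
    refine ⟨hX.fix_a x hx, hX.fix_ta x hx, ?_⟩
    rw [smul_smul, Subgroup.mem_centralizer_iff.1 hsX x hx, mul_smul, hX.fix_ta x hx]

theorem subD (hX : SubV a t X) :
    X ⊆ ((stabilizer G a ⊓ stabilizer G (t • a) : Subgroup G) : Set G) := fun _ hx => (hX hx).1

/-- the kernel of the action of `C_G(X)` on `Fix(X)` lies in `D` -/
theorem mem_D_of_proj_eq_one (hX : SubV a t X) {c : Subgroup.centralizer X}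
    (hc : proj Ω X c = 1) : (c : G) ∈ stabilizer G a ⊓ stabilizer G (t • a) := by
  rw [proj_eq_one_iff] at hc
  exact ⟨mem_stabilizer_iff.2 (hc a hX.fix_a), mem_stabilizer_iff.2 (hc (t • a) hX.fix_ta)⟩

theorem eq_one_of_mem_Q (hS : Cfsg.IsRankOneSetup G Ω a t Q) (hX : SubV a t X)
    {c : Subgroup.centralizer X} (hcQ : (c : G) ∈ Q) (hc : proj Ω X c = 1) : c = 1 := by
  apply Subtype.ext
  exact LieRecognition.RankOneBasic.eq_one_of_smul_t_smul hS hcQ
    (mem_stabilizer_iff.1 (mem_D_of_proj_eq_one hX hc).2)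

/-- the projection is injective on `C_Q(X)` -/
theorem proj_inj_Q (hS : Cfsg.IsRankOneSetup G Ω a t Q) (hX : SubV a t X)
    {c d : Subgroup.centralizer X} (hcQ : (c : G) ∈ Q) (hdQ : (d : G) ∈ Q)
    (h : proj Ω X c = proj Ω X d) : c = d := by
  have h1 : c⁻¹ * d = 1 := by
    apply eq_one_of_mem_Q hS hX
    · exact Q.mul_mem (Q.inv_mem hcQ) hdQ
    · rw [map_mul, map_inv, h, inv_mul_cancel]
  exact (inv_mul_eq_one.1 h1)

theorem mem_stabilizer_ptA (hX : SubV a t X) (c : Subgroup.centralizer X) :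
    proj Ω X c ∈ stabilizer (CQuot Ω X) (ptA hX) ↔ (c : G) ∈ stabilizer G a := by
  rw [mem_stabilizer_iff, mem_stabilizer_iff]
  constructor
  · intro h; exact congrArg Subtype.val h
  · intro h; exact Subtype.ext h

theorem mem_stabilizer_tptA (hX : SubV a t X) (c : Subgroup.centralizer X) :
    proj Ω X c ∈ stabilizer (CQuot Ω X) (tX hX • ptA hX) ↔ (c : G) ∈ stabilizer G (t • a) := by
  rw [mem_stabilizer_iff, mem_stabilizer_iff]
  constructor
  · intro h; exact congrArg Subtype.val h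
  · intro h; exact Subtype.ext h

theorem mem_D_iff (hX : SubV a t X) (c : Subgroup.centralizer X) :
    proj Ω X c ∈ stabilizer (CQuot Ω X) (ptA hX) ⊓ stabilizer (CQuot Ω X) (tX hX • ptA hX) ↔
      (c : G) ∈ stabilizer G a ⊓ stabilizer G (t • a) := by
  rw [Subgroup.mem_inf, Subgroup.mem_inf, mem_stabilizer_ptA, mem_stabilizer_tptA]

theorem mem_QX_iff (x : CQuot Ω X) : x ∈ QX Ω X Q ↔ ∃ c : Subgroup.centralizer X, (c : G) ∈ Q ∧ proj Ω X c = x := by
  rw [QX, Subgroup.mem_map]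
  rfl

/-- `Q_X` is isomorphic to `C_Q(X)`. -/
noncomputable def equivQX (hS : Cfsg.IsRankOneSetup G Ω a t Q) (hX : SubV a t X) :
    ↥(Q.subgroupOf (Subgroup.centralizer X)) ≃* ↥(QX Ω X Q) :=
  MulEquiv.ofBijective
    ((proj Ω X).subgroupMap (Q.subgroupOf (Subgroup.centralizer X)))
    ⟨fun x y h => Subtype.ext (proj_inj_Q hS hX x.2 y.2 (congrArg Subtype.val h)),
      (proj Ω X).subgroupMap_surjective _⟩

theorem card_subgroupOf_eq (H K : Subgroup G) :
    Nat.card ↥(H.subgroupOf K) = Nat.card ↥(K ⊓ H : Subgroup G) := by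
  rw [inf_comm, ← Subgroup.subgroupOf_map_subtype,
    Subgroup.card_map_of_injective (Subgroup.subtype_injective K)]

theorem card_QX (hS : Cfsg.IsRankOneSetup G Ω a t Q) (hX : SubV a t X) :
    Nat.card ↥(QX Ω X Q) = Nat.card ↥(Subgroup.centralizer X ⊓ Q) := by
  rw [← card_subgroupOf_eq, Nat.card_congr (equivQX hS hX).toEquiv]

/-- **(I6)** `C_G(X)` on `Fix(X)`, made faithful, is a rank-one set-up. -/
theorem setup [Finite G] (hS : Cfsg.IsRankOneSetup G Ω a t Q) (hX : SubV a t X) :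
    Cfsg.IsRankOneSetup (CQuot Ω X) (FixPt Ω X) (ptA hX) (tX hX) (QX Ω X Q) := by
  obtain ⟨h2tr, heven, hsup⟩ := Cfsg.Agent.S1125.result hS X (subD hX) (exists_three hS hX)
  have hta := LieRecognition.RankOneBasic.t_smul_ne hS
  refine ⟨?_, ?_, ?_, ?_, ?_, ?_, ?_, ?_, ?_, ?_⟩
  · rw [is_two_pretransitive_iff]
    intro b₁ b₂ c₁ c₂ hb hc
    obtain ⟨g, hg, hg1, hg2⟩ := h2tr b₁.1 b₂.1 c₁.1 c₂.1
      (fun x hx => ⟨b₁.2 x hx, b₂.2 x hx, c₁.2 x hx, c₂.2 x hx⟩)
      (fun h => hb (Subtype.ext h)) (fun h => hc (Subtype.ext h))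
    exact ⟨proj Ω X ⟨g, hg⟩, Subtype.ext hg1, Subtype.ext hg2⟩
  · rw [tX, ← map_mul]
    have : (⟨t, hX.t_mem⟩ : Subgroup.centralizer X) * ⟨t, hX.t_mem⟩ = 1 := Subtype.ext hS.mul_self
    rw [this, map_one]
  · intro h
    have := mem_D_of_proj_eq_one hX h
    exact hS.not_mem this.1
  · intro h
    exact hS.not_mem ((mem_stabilizer_ptA hX _).1 h)
  · rintro _ ⟨c, hc, rfl⟩
    exact (mem_stabilizer_ptA hX _).2 (hS.le hc)
  · intro h hh x hx
    obtain ⟨g, rfl⟩ := proj_surjective Ω X h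
    obtain ⟨c, hc, rfl⟩ := hx
    rw [mem_stabilizer_ptA] at hh
    refine ⟨g * c * g⁻¹, ?_, by rw [map_mul, map_mul, map_inv]⟩
    exact hS.conj_mem g hh c hc
  · rw [eq_bot_iff]
    rintro _ ⟨⟨c, hc, rfl⟩, h⟩
    replace h := (mem_stabilizer_tptA hX c).1 h
    have : c = 1 := Subtype.ext (LieRecognition.RankOneBasic.eq_one_of_smul_t_smul hS hc
      (mem_stabilizer_iff.1 h))
    rw [this, map_one]
    exact Subgroup.mem_bot.2 rfl
  · apply le_antisymm
    · refine sup_le ?_ inf_le_left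
      rintro _ ⟨c, hc, rfl⟩
      exact (mem_stabilizer_ptA hX _).2 (hS.le hc)
    · intro h hh
      obtain ⟨g, rfl⟩ := proj_surjective Ω X h
      rw [mem_stabilizer_ptA] at hh
      obtain ⟨q, hq, d, hd, hqd⟩ := LieRecognition.RankOneBasic.exists_mul_of_mem_stabilizer hS hh
      have hqX : q ∈ Subgroup.centralizer X := by
        rw [Subgroup.mem_centralizer_iff]
        intro x hx
        have hxa := (hX hx).1.1
        have hxq : x * q * x⁻¹ ∈ Q := hS.conj_mem x hxa q hq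
        have hgx := Subgroup.mem_centralizer_iff.1 g.2 x hx
        have e1 : q • (t • a) = (g : G) • (t • a) := by
          rw [hqd, mul_smul, mem_stabilizer_iff.1 hd.2]
        have e2 : (x * q * x⁻¹) • (t • a) = q • (t • a) := by
          have : x⁻¹ • (t • a) = t • a := inv_smul_eq_iff.2 (hX.fix_ta x hx).symm
          rw [mul_smul, mul_smul, this, e1, smul_smul, hgx, mul_smul, hX.fix_ta x hx]
        have e3 := LieRecognition.RankOneBasic.eq_of_smul_eq_smul hS hxq hq hta e2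
        exact mul_inv_eq_iff_eq_mul.1 e3
      have hdX : d ∈ Subgroup.centralizer X := by
        have : d = q⁻¹ * g := by rw [hqd]; group
        rw [this]
        exact Subgroup.mul_mem _ (Subgroup.inv_mem _ hqX) g.2
      have hg : g = (⟨q, hqX⟩ : Subgroup.centralizer X) * ⟨d, hdX⟩ := Subtype.ext hqd
      rw [hg, map_mul]
      refine Subgroup.mul_mem _ (Subgroup.mem_sup_left ⟨_, hq, rfl⟩) (Subgroup.mem_sup_right ?_)
      exact (mem_D_iff hX _).2 hd
  · rw [card_QX hS hX]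
    exact heven
  · -- the order of `D_X` divides the order of `D`
    have h1 : (stabilizer (CQuot Ω X) (ptA hX) ⊓ stabilizer (CQuot Ω X) (tX hX • ptA hX)) =
        ((stabilizer G a ⊓ stabilizer G (t • a)).subgroupOf (Subgroup.centralizer X)).map
          (proj Ω X) := by
      ext h
      constructor
      · intro hh
        obtain ⟨g, rfl⟩ := proj_surjective Ω X h
        exact ⟨g, (mem_D_iff hX g).1 hh, rfl⟩
      · rintro ⟨g, hg, rfl⟩
        exact (mem_D_iff hX g).2 hg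
    rw [h1]
    have h2 : Nat.card ↥(((stabilizer G a ⊓ stabilizer G (t • a)).subgroupOf
        (Subgroup.centralizer X)).map (proj Ω X)) ∣
        Nat.card ↥((stabilizer G a ⊓ stabilizer G (t • a)).subgroupOf (Subgroup.centralizer X)) :=
      Subgroup.card_map_dvd _ _
    have h3 : Nat.card ↥((stabilizer G a ⊓ stabilizer G (t • a)).subgroupOf
        (Subgroup.centralizer X)) ∣ Nat.card ↥(stabilizer G a ⊓ stabilizer G (t • a)) := by
      rw [card_subgroupOf_eq]
      exact Subgroup.card_dvd_of_le inf_le_right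
    exact Odd.of_dvd_nat hS.odd_card (h2.trans h3)

/-! ### Images of the special subsets -/

/-- Two elements of square one with a common fixed point which agree on another point are equal. -/
theorem eq_of_fix_of_agree [Finite G] (hS : Cfsg.IsRankOneSetup G Ω a t Q) {u v : G}
    (hu : u * u = 1) (hv : v * v = 1) {e b : Ω} (hue : u • e = e) (hve : v • e = e) (hbe : b ≠ e)
    (h : u • b = v • b) : u = v := by
  obtain ⟨g, hg⟩ := LieRecognition.RankOneBasic.exists_smul_eq' hS a e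
  have hmem : ∀ w : G, w * w = 1 → w • e = e → g⁻¹ * w * g ∈ Q := by
    intro w hw hwe
    apply LieRecognition.RankOneBasic.mem_of_mul_self hS
    · rw [mem_stabilizer_iff, mul_smul, mul_smul, hg, hwe, inv_smul_eq_iff, hg]
    · have : g⁻¹ * w * g * (g⁻¹ * w * g) = g⁻¹ * (w * w) * g := by group
      rw [this, hw]; group
  have hc : g⁻¹ • b ≠ a := by
    intro h'
    apply hbe
    rw [inv_smul_eq_iff] at h'
    rw [h', hg]
  have h1 := LieRecognition.RankOneBasic.eq_of_smul_eq_smul hS (hmem u hu hue) (hmem v hv hve) hc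
    (by rw [mul_smul, mul_smul, mul_smul, mul_smul, smul_inv_smul, h])
  have h2 : g * (g⁻¹ * u * g) * g⁻¹ = g * (g⁻¹ * v * g) * g⁻¹ := by rw [h1]
  simpa [mul_assoc] using h2

theorem tX_inv (hX : SubV a t X) (ht : t * t = 1) : (tX hX : CQuot Ω X)⁻¹ = tX hX := by
  apply inv_eq_of_mul_eq_one_left
  rw [tX, ← map_mul]
  have : (⟨t, hX.t_mem⟩ : Subgroup.centralizer X) * ⟨t, hX.t_mem⟩ = 1 := Subtype.ext ht
  rw [this, map_one]

/-- `t` normalises `C_D(X)`. -/
theorem conj_mem_DX (hS : Cfsg.IsRankOneSetup G Ω a t Q) (hX : SubV a t X) :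
    ∀ x ∈ (stabilizer G a ⊓ stabilizer G (t • a)) ⊓ Subgroup.centralizer X,
      t * x * t⁻¹ ∈ (stabilizer G a ⊓ stabilizer G (t • a)) ⊓ Subgroup.centralizer X := by
  intro x hx
  have hti := LieRecognition.RankOneBasic.t_inv hS
  have htt := LieRecognition.RankOneBasic.t_smul_t_smul hS
  refine ⟨⟨?_, ?_⟩, ?_⟩
  · show (t * x * t⁻¹) • a = a
    rw [mul_smul, mul_smul, hti, mem_stabilizer_iff.1 hx.1.2, htt]
  · show (t * x * t⁻¹) • (t • a) = t • a
    rw [mul_smul, mul_smul, hti, htt, mem_stabilizer_iff.1 hx.1.1]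
  · exact Subgroup.mul_mem _ (Subgroup.mul_mem _ hX.t_mem hx.2) (Subgroup.inv_mem _ hX.t_mem)

theorem orderOf_t (hS : Cfsg.IsRankOneSetup G Ω a t Q) : orderOf t = 2 := by
  rw [orderOf_eq_prime_iff]
  exact ⟨by rw [pow_two, hS.mul_self], hS.ne_one⟩

/-- Factorisation of `C_D(X)` as `C_V(X) C_K(X)`. -/
theorem exists_factor [Finite G] (hS : Cfsg.IsRankOneSetup G Ω a t Q) (hX : SubV a t X)
    {c : G} (hcX : c ∈ Subgroup.centralizer X)
    (hc : c ∈ stabilizer G a ⊓ stabilizer G (t • a)) :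
    ∃ y z : G, y ∈ Subgroup.centralizer X ∧ z ∈ Subgroup.centralizer X ∧
      y ∈ (stabilizer G a ⊓ stabilizer G (t • a)) ⊓ Subgroup.centralizer {t} ∧
      z ∈ Cfsg.invertedBy (stabilizer G a ⊓ stabilizer G (t • a)) t ∧ c = y * z := by
  have hodd : Odd (Nat.card ↥((stabilizer G a ⊓ stabilizer G (t • a)) ⊓ Subgroup.centralizer X)) :=
    Odd.of_dvd_nat hS.odd_card (Subgroup.card_dvd_of_le inf_le_left)
  obtain ⟨h1, -, -⟩ := Cfsg.Agent.S1124.result t (orderOf_t hS) _ hodd (conj_mem_DX hS hX)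
  obtain ⟨⟨y, z⟩, ⟨hy, hz, hyz⟩, -⟩ := h1 c ⟨hc, hcX⟩
  exact ⟨y, z, hy.1.2, hz.1.2, ⟨hy.1.1, hy.2⟩, ⟨hz.1.1, hz.2⟩, hyz⟩

/-- Uniqueness of the factorisation `D = V K`. -/
theorem factor_unique [Finite G] (hS : Cfsg.IsRankOneSetup G Ω a t Q) {y z y' z' : G}
    (hy : y ∈ (stabilizer G a ⊓ stabilizer G (t • a)) ⊓ Subgroup.centralizer {t})
    (hz : z ∈ Cfsg.invertedBy (stabilizer G a ⊓ stabilizer G (t • a)) t)
    (hy' : y' ∈ (stabilizer G a ⊓ stabilizer G (t • a)) ⊓ Subgroup.centralizer {t})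
    (hz' : z' ∈ Cfsg.invertedBy (stabilizer G a ⊓ stabilizer G (t • a)) t)
    (h : y * z = y' * z') : y = y' ∧ z = z' := by
  have hX0 : SubV a t (∅ : Set G) := by
    intro x hx; exact absurd hx (Set.notMem_empty x)
  have hn : ∀ x ∈ (stabilizer G a ⊓ stabilizer G (t • a)),
      t * x * t⁻¹ ∈ (stabilizer G a ⊓ stabilizer G (t • a)) := by
    intro x hx
    exact (conj_mem_DX hS hX0 x ⟨hx, Subgroup.mem_centralizer_iff.2
      (fun y hy => absurd hy (Set.notMem_empty y))⟩).1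
  obtain ⟨h1, -, -⟩ := Cfsg.Agent.S1124.result t (orderOf_t hS) _ hS.odd_card hn
  have hmem : y * z ∈ (stabilizer G a ⊓ stabilizer G (t • a)) :=
    Subgroup.mul_mem _ hy.1 hz.1
  have h2 := (h1 (y * z) hmem).unique (y₁ := (y, z)) (y₂ := (y', z')) ⟨hy, hz, rfl⟩ ⟨hy', hz', h⟩
  exact ⟨congrArg Prod.fst h2, congrArg Prod.snd h2⟩

theorem proj_mem_V (hX : SubV a t X) {c : Subgroup.centralizer X}
    (hc : (c : G) ∈ (stabilizer G a ⊓ stabilizer G (t • a)) ⊓ Subgroup.centralizer {t}) :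
    proj Ω X c ∈ (stabilizer (CQuot Ω X) (ptA hX) ⊓ stabilizer (CQuot Ω X) (tX hX • ptA hX)) ⊓
      Subgroup.centralizer {tX hX} := by
  refine ⟨(mem_D_iff hX c).2 hc.1, Subgroup.mem_centralizer_singleton_iff.2 ?_⟩
  rw [tX, ← map_mul, ← map_mul]
  congr 1
  exact Subtype.ext (Subgroup.mem_centralizer_singleton_iff.1 hc.2)

theorem proj_mem_K (hX : SubV a t X) {c : Subgroup.centralizer X}
    (hc : (c : G) ∈ Cfsg.invertedBy (stabilizer G a ⊓ stabilizer G (t • a)) t) :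
    proj Ω X c ∈ Cfsg.invertedBy
      (stabilizer (CQuot Ω X) (ptA hX) ⊓ stabilizer (CQuot Ω X) (tX hX • ptA hX)) (tX hX) := by
  refine ⟨(mem_D_iff hX c).2 hc.1, ?_⟩
  rw [tX, ← map_mul, ← map_inv, ← map_mul, ← map_inv]
  congr 1
  exact Subtype.ext hc.2

/-- `V_X` is the image of `C_V(X)`. -/
theorem mem_V_iff [Finite G] (hS : Cfsg.IsRankOneSetup G Ω a t Q) (hX : SubV a t X)
    (x : CQuot Ω X) :
    x ∈ (stabilizer (CQuot Ω X) (ptA hX) ⊓ stabilizer (CQuot Ω X) (tX hX • ptA hX)) ⊓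
      Subgroup.centralizer {tX hX} ↔
    ∃ c : Subgroup.centralizer X,
      (c : G) ∈ (stabilizer G a ⊓ stabilizer G (t • a)) ⊓ Subgroup.centralizer {t} ∧
        proj Ω X c = x := by
  constructor
  · intro hx
    obtain ⟨c, rfl⟩ := proj_surjective Ω X x
    obtain ⟨y, z, hyX, hzX, hy, hz, hyz⟩ := exists_factor hS hX c.2 ((mem_D_iff hX c).1 hx.1)
    have hc : c = (⟨y, hyX⟩ : Subgroup.centralizer X) * ⟨z, hzX⟩ := Subtype.ext hyz
    have h1 : proj Ω X ⟨y, hyX⟩ * proj Ω X ⟨z, hzX⟩ = proj Ω X c * 1 := by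
      rw [mul_one, hc, map_mul]
    have h2 := factor_unique (setup hS hX) (proj_mem_V hX hy) (proj_mem_K hX hz) hx
      ⟨Subgroup.one_mem _, by simp⟩ h1
    exact ⟨⟨y, hyX⟩, hy, h2.1⟩
  · rintro ⟨c, hc, rfl⟩
    exact proj_mem_V hX hc

/-- `K_X` is the image of `C_K(X)`. -/
theorem mem_K_iff [Finite G] (hS : Cfsg.IsRankOneSetup G Ω a t Q) (hX : SubV a t X)
    (x : CQuot Ω X) :
    x ∈ Cfsg.invertedBy
      (stabilizer (CQuot Ω X) (ptA hX) ⊓ stabilizer (CQuot Ω X) (tX hX • ptA hX)) (tX hX) ↔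
    ∃ c : Subgroup.centralizer X,
      (c : G) ∈ Cfsg.invertedBy (stabilizer G a ⊓ stabilizer G (t • a)) t ∧ proj Ω X c = x := by
  constructor
  · intro hx
    obtain ⟨c, rfl⟩ := proj_surjective Ω X x
    obtain ⟨y, z, hyX, hzX, hy, hz, hyz⟩ := exists_factor hS hX c.2 ((mem_D_iff hX c).1 hx.1)
    have hc : c = (⟨y, hyX⟩ : Subgroup.centralizer X) * ⟨z, hzX⟩ := Subtype.ext hyz
    have h1 : proj Ω X ⟨y, hyX⟩ * proj Ω X ⟨z, hzX⟩ = 1 * proj Ω X c := by
      rw [one_mul, hc, map_mul]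
    have h2 := factor_unique (setup hS hX) (proj_mem_V hX hy) (proj_mem_K hX hz)
      (Subgroup.one_mem _) hx h1
    exact ⟨⟨z, hzX⟩, hz, h2.2⟩
  · rintro ⟨c, hc, rfl⟩
    exact proj_mem_K hX hc

/-- The projection is injective on `C_K(X)`. -/
theorem proj_inj_K [Finite G] (hS : Cfsg.IsRankOneSetup G Ω a t Q) (hX : SubV a t X)
    {c d : Subgroup.centralizer X}
    (hc : (c : G) ∈ Cfsg.invertedBy (stabilizer G a ⊓ stabilizer G (t • a)) t)
    (hd : (d : G) ∈ Cfsg.invertedBy (stabilizer G a ⊓ stabilizer G (t • a)) t)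
    (h : proj Ω X c = proj Ω X d) : c = d := by
  have hti := LieRecognition.RankOneBasic.t_inv hS
  have hta := LieRecognition.RankOneBasic.t_smul_ne hS
  have hsq : ∀ c : G, c ∈ Cfsg.invertedBy (stabilizer G a ⊓ stabilizer G (t • a)) t →
      (t * c) * (t * c) = 1 := by
    intro c hc
    have := hc.2
    rw [hti] at this
    rw [← mul_assoc, this, inv_mul_cancel]
  have hta' : ∀ c : G, c ∈ Cfsg.invertedBy (stabilizer G a ⊓ stabilizer G (t • a)) t →
      (t * c) • a = t • a := by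
    intro c hc
    rw [mul_smul, mem_stabilizer_iff.1 hc.1.1]
  obtain ⟨e, he⟩ := LieRecognition.RankOneBasic.exists_fixed (setup hS hX)
    (u := tX hX * proj Ω X c) (by
      rw [tX, ← map_mul, ← map_mul]
      have : (⟨t, hX.t_mem⟩ * c) * (⟨t, hX.t_mem⟩ * c) = (1 : Subgroup.centralizer X) :=
        Subtype.ext (hsq c hc)
      rw [this, map_one])
  have he1 : (t * (c : G)) • e.1 = e.1 := congrArg Subtype.val he
  have he2 : (t * (d : G)) • e.1 = e.1 := by
    rw [h] at he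
    exact congrArg Subtype.val he
  have hae : a ≠ e.1 := by
    intro h'
    rw [← h', hta' c hc] at he1
    exact hta he1
  have h3 := eq_of_fix_of_agree hS (hsq c hc) (hsq d hd) he1 he2 hae
    (by rw [hta' c hc, hta' d hd])
  exact Subtype.ext (mul_left_cancel h3)

/-- The involutions of `(CQuot Ω X)_a` are the images of those of `C_{G_a}(X)`. -/
theorem mem_involutions_iff [Finite G] (hS : Cfsg.IsRankOneSetup G Ω a t Q) (hX : SubV a t X)
    (x : CQuot Ω X) :
    x ∈ Cfsg.involutionsIn (stabilizer (CQuot Ω X) (ptA hX) : Set (CQuot Ω X)) ↔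
    ∃ c : Subgroup.centralizer X,
      (c : G) ∈ Cfsg.involutionsIn (stabilizer G a : Set G) ∧ proj Ω X c = x := by
  constructor
  · rintro ⟨hxa, hx1, hx2⟩
    obtain ⟨c, hc, rfl⟩ := (mem_QX_iff x).1
      (LieRecognition.RankOneBasic.mem_of_mul_self (setup hS hX) hxa hx2)
    have h1 : c * c = 1 := eq_one_of_mem_Q hS hX (c := c * c) (Q.mul_mem hc hc)
      (by rw [map_mul, hx2])
    refine ⟨c, ⟨hS.le hc, ?_, congrArg Subtype.val h1⟩, rfl⟩
    intro h
    apply hx1
    have : c = 1 := Subtype.ext h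
    rw [this, map_one]
  · rintro ⟨c, ⟨hca, hc1, hc2⟩, rfl⟩
    refine ⟨(mem_stabilizer_ptA hX c).2 hca, ?_, ?_⟩
    · intro h
      exact hc1 (congrArg Subtype.val (eq_one_of_mem_Q hS hX
        (LieRecognition.RankOneBasic.mem_of_mul_self hS hca hc2) h))
    · rw [← map_mul]
      have : c * c = 1 := Subtype.ext hc2
      rw [this, map_one]

theorem card_involutions [Finite G] (hS : Cfsg.IsRankOneSetup G Ω a t Q) (hX : SubV a t X) :
    Nat.card (Cfsg.involutionsIn (stabilizer (CQuot Ω X) (ptA hX) : Set (CQuot Ω X))) =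
      Nat.card ↥(Cfsg.involutionsIn (stabilizer G a : Set G) ∩
        (Subgroup.centralizer X : Set G) : Set G) := by
  symm
  refine Nat.card_eq_of_bijective
    (fun s : ↥(Cfsg.involutionsIn (stabilizer G a : Set G) ∩
        (Subgroup.centralizer X : Set G) : Set G) =>
      (⟨proj Ω X ⟨s.1, s.2.2⟩, (mem_involutions_iff hS hX _).2 ⟨⟨s.1, s.2.2⟩, s.2.1, rfl⟩⟩ :
        ↥(Cfsg.involutionsIn (stabilizer (CQuot Ω X) (ptA hX) : Set (CQuot Ω X))))) ⟨?_, ?_⟩
  · intro s s' h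
    have h1 := proj_inj_Q hS hX
      (LieRecognition.RankOneBasic.mem_of_mul_self hS s.2.1.1 s.2.1.2.2)
      (LieRecognition.RankOneBasic.mem_of_mul_self hS s'.2.1.1 s'.2.1.2.2)
      (congrArg Subtype.val h)
    exact Subtype.ext (congrArg (fun z : Subgroup.centralizer X => (z : G)) h1)
  · rintro ⟨x, hx⟩
    obtain ⟨c, hc, hcx⟩ := (mem_involutions_iff hS hX x).1 hx
    exact ⟨⟨c, hc, c.2⟩, Subtype.ext hcx⟩

theorem card_K [Finite G] (hS : Cfsg.IsRankOneSetup G Ω a t Q) (hX : SubV a t X) :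
    Nat.card (Cfsg.invertedBy
      (stabilizer (CQuot Ω X) (ptA hX) ⊓ stabilizer (CQuot Ω X) (tX hX • ptA hX)) (tX hX)) =
      Nat.card ↥(Cfsg.invertedBy (stabilizer G a ⊓ stabilizer G (t • a)) t ∩
        (Subgroup.centralizer X : Set G) : Set G) := by
  symm
  refine Nat.card_eq_of_bijective
    (fun s : ↥(Cfsg.invertedBy (stabilizer G a ⊓ stabilizer G (t • a)) t ∩
        (Subgroup.centralizer X : Set G) : Set G) =>
      (⟨proj Ω X ⟨s.1, s.2.2⟩, (mem_K_iff hS hX _).2 ⟨⟨s.1, s.2.2⟩, s.2.1, rfl⟩⟩ :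
        ↥(Cfsg.invertedBy (stabilizer (CQuot Ω X) (ptA hX) ⊓
          stabilizer (CQuot Ω X) (tX hX • ptA hX)) (tX hX)))) ⟨?_, ?_⟩
  · intro s s' h
    have h1 := proj_inj_K hS hX s.2.1 s'.2.1 (congrArg Subtype.val h)
    exact Subtype.ext (congrArg (fun z : Subgroup.centralizer X => (z : G)) h1)
  · rintro ⟨x, hx⟩
    obtain ⟨c, hc, hcx⟩ := (mem_K_iff hS hX x).1 hx
    exact ⟨⟨c, hc, c.2⟩, Subtype.ext hcx⟩

/-- `|C_K(X)|` is the number of involutions of `C_{G_a}(X)`. -/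
theorem card_K_inter [Finite G] (hS : Cfsg.IsRankOneSetup G Ω a t Q) (hX : SubV a t X) :
    Nat.card ↥(Cfsg.invertedBy (stabilizer G a ⊓ stabilizer G (t • a)) t ∩
        (Subgroup.centralizer X : Set G) : Set G) =
      Nat.card ↥(Cfsg.involutionsIn (stabilizer G a : Set G) ∩
        (Subgroup.centralizer X : Set G) : Set G) := by
  rw [← card_K hS hX, ← card_involutions hS hX]
  exact (Cfsg.Agent.S1122.result (setup hS hX)).1

/-- The structure pair of `CQuot Ω X` is the image of the structure pair of `G`. -/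
theorem structure_pair [Finite G] (hS : Cfsg.IsRankOneSetup G Ω a t Q) (hX : SubV a t X)
    {s r : G} (hs : s ∈ Cfsg.involutionsIn (stabilizer G a : Set G)) (hr : r ∈ Q)
    (hsr : t * s * t = r⁻¹ * t * r) (hsX : s ∈ Subgroup.centralizer X)
    (hrX : r ∈ Subgroup.centralizer X) :
    proj Ω X ⟨s, hsX⟩ ∈ Cfsg.involutionsIn (stabilizer (CQuot Ω X) (ptA hX) : Set (CQuot Ω X)) ∧
    proj Ω X ⟨r, hrX⟩ ∈ QX Ω X Q ∧
    tX hX * proj Ω X ⟨s, hsX⟩ * tX hX =
      (proj Ω X ⟨r, hrX⟩)⁻¹ * tX hX * proj Ω X ⟨r, hrX⟩ := by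
  refine ⟨(mem_involutions_iff hS hX _).2 ⟨⟨s, hsX⟩, hs, rfl⟩, ⟨⟨r, hrX⟩, hr, rfl⟩, ?_⟩
  rw [tX, ← map_mul, ← map_mul, ← map_inv, ← map_mul, ← map_mul]
  congr 1
  exact Subtype.ext hsr

/-- `CQuot Ω X` is smaller than `G`. -/
theorem card_lt [Finite G] [FaithfulSMul G Ω] (hS : Cfsg.IsRankOneSetup G Ω a t Q)
    (hX : SubV a t X) {x : G} (hx : x ∈ X) (hx1 : x ≠ 1) :
    Nat.card (CQuot Ω X) < Nat.card G := by
  have h1 : Nat.card (CQuot Ω X) ≤ Nat.card (Subgroup.centralizer X) :=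
    Nat.card_le_card_of_surjective _ (proj_surjective Ω X)
  have h2 : Nat.card (Subgroup.centralizer X) < Nat.card G := by
    rcases (Subgroup.card_le_card_group (Subgroup.centralizer X)).lt_or_eq with h | h
    · exact h
    · exfalso
      have htop : Subgroup.centralizer X = ⊤ := Subgroup.eq_top_of_card_eq _ h
      apply hx1
      apply eq_of_smul_eq_smul (α := Ω)
      intro b
      obtain ⟨g, hg⟩ := LieRecognition.RankOneBasic.exists_smul_eq' hS a b
      have hgX : g ∈ Subgroup.centralizer X := by rw [htop]; exact Subgroup.mem_top g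
      rw [one_smul, ← hg, smul_smul, Subgroup.mem_centralizer_iff.1 hgX x hx, mul_smul,
        hX.fix_a x hx]
  exact lt_of_le_of_lt h1 h2

/-- If `C_K(X) ≠ 1` then `CQuot Ω X` has 2-rank at least two. -/
theorem two_rank [Finite G] [FaithfulSMul G Ω] (hS : Cfsg.IsRankOneSetup G Ω a t Q)
    (h2 : ∃ x y : G, x ≠ 1 ∧ y ≠ 1 ∧ x ≠ y ∧ x * x = 1 ∧ y * y = 1 ∧ x * y = y * x)
    (hX : SubV a t X) {k : G}
    (hk : k ∈ Cfsg.invertedBy (stabilizer G a ⊓ stabilizer G (t • a)) t)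
    (hkX : k ∈ Subgroup.centralizer X) (hk1 : k ≠ 1) :
    ∃ x y : CQuot Ω X, x ≠ 1 ∧ y ≠ 1 ∧ x ≠ y ∧ x * x = 1 ∧ y * y = 1 ∧ x * y = y * x := by
  obtain ⟨⟨s, r⟩, ⟨hs, hr, hsr⟩, -⟩ := Cfsg.Agent.S1123.result hS
  have hsX := (structure_pair_mem hS hX hs hr hsr).1
  have hsQ := LieRecognition.RankOneBasic.mem_of_mul_self hS hs.1 hs.2.2
  -- the second involution
  have hs' : k⁻¹ * s * k ∈ Cfsg.involutionsIn (stabilizer G a : Set G) := by
    refine ⟨(stabilizer G a).mul_mem ((stabilizer G a).mul_mem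
      ((stabilizer G a).inv_mem hk.1.1) hs.1) hk.1.1, ?_, ?_⟩
    · intro h
      apply hs.2.1
      have : s = k * (k⁻¹ * s * k) * k⁻¹ := by group
      rw [this, h]; group
    · have : k⁻¹ * s * k * (k⁻¹ * s * k) = k⁻¹ * (s * s) * k := by group
      rw [this, hs.2.2]; group
  have hs'X : k⁻¹ * s * k ∈ Subgroup.centralizer X :=
    Subgroup.mul_mem _ (Subgroup.mul_mem _ (Subgroup.inv_mem _ hkX) hsX) hkX
  have hne : s ≠ k⁻¹ * s * k := by
    intro h
    have h1 : s ∈ Q ⊓ Subgroup.centralizer {k} := by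
      refine ⟨hsQ, Subgroup.mem_centralizer_singleton_iff.2 ?_⟩
      have : k * s = k * (k⁻¹ * s * k) := by rw [← h]
      rw [this]; group
    rw [Cfsg.Agent.S1128.result hS h2 k hk hk1] at h1
    exact hs.2.1 (Subgroup.mem_bot.1 h1)
  have hcomm := ((Cfsg.Agent.S1130.result hS h2).1 s hs).2 _
    (LieRecognition.RankOneBasic.mem_of_mul_self hS hs'.1 hs'.2.2)
  obtain ⟨h1a, h1b, h1c⟩ := (mem_involutions_iff hS hX _).2 ⟨⟨s, hsX⟩, hs, rfl⟩
  obtain ⟨h2a, h2b, h2c⟩ := (mem_involutions_iff hS hX _).2 ⟨⟨k⁻¹ * s * k, hs'X⟩, hs', rfl⟩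
  refine ⟨proj Ω X ⟨s, hsX⟩, proj Ω X ⟨k⁻¹ * s * k, hs'X⟩, h1b, h2b, ?_, h1c, h2c, ?_⟩
  · intro h
    have := proj_inj_Q hS hX hsQ
      (LieRecognition.RankOneBasic.mem_of_mul_self hS hs'.1 hs'.2.2) h
    exact hne (congrArg (fun z : Subgroup.centralizer X => (z : G)) this)
  · rw [← map_mul, ← map_mul]
    congr 1
    exact Subtype.ext hcomm

/-- If `CQuot Ω X` has more than one involution in its point stabiliser then `C_K(X) ≠ 1`. -/
theorem exists_K_ne_one [Finite G] (hS : Cfsg.IsRankOneSetup G Ω a t Q)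
    (hX : SubV a t X) {x y : G} (hx : x ∈ Cfsg.involutionsIn (stabilizer G a : Set G))
    (hy : y ∈ Cfsg.involutionsIn (stabilizer G a : Set G)) (hxX : x ∈ Subgroup.centralizer X)
    (hyX : y ∈ Subgroup.centralizer X) (hxy : x ≠ y) :
    ∃ k ∈ Cfsg.invertedBy (stabilizer G a ⊓ stabilizer G (t • a)) t,
      k ∈ Subgroup.centralizer X ∧ k ≠ 1 ∧ k⁻¹ * x * k = y := by
  have hx' := (mem_involutions_iff hS hX _).2 ⟨⟨x, hxX⟩, hx, rfl⟩
  have hy' := (mem_involutions_iff hS hX _).2 ⟨⟨y, hyX⟩, hy, rfl⟩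
  obtain ⟨k', hk', hkx⟩ := (Cfsg.Agent.S1122.result (setup hS hX)).2 _ hx' _ hy'
  obtain ⟨k, hk, rfl⟩ := (mem_K_iff hS hX k').1 hk'
  have h1 : k⁻¹ * ⟨x, hxX⟩ * k = (⟨y, hyX⟩ : Subgroup.centralizer X) := by
    apply proj_inj_Q hS hX _
      (LieRecognition.RankOneBasic.mem_of_mul_self hS hy.1 hy.2.2)
      (by rw [map_mul, map_mul, map_inv, hkx])
    have hka : (k : G) ∈ stabilizer G a := hk.1.1
    have := hS.conj_mem (k : G)⁻¹ ((stabilizer G a).inv_mem hka) x
      (LieRecognition.RankOneBasic.mem_of_mul_self hS hx.1 hx.2.2)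
    simpa using this
  have h2 : (k : G)⁻¹ * x * k = y := congrArg (fun z : Subgroup.centralizer X => (z : G)) h1
  refine ⟨k, hk, k.2, ?_, h2⟩
  intro h
  apply hxy
  rw [h] at h2
  simpa using h2

end Main

end Cfsg.Agent.SuzukiRankOne.CentralizerSetup
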